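import Groth.Agent.KInj.Derived
import Groth.Agent.KInj.Lifting

/-!
# Factoring maps into K-injective complexes through injective models
-/

set_option autoImplicit false
set_option linter.style.haveILetI false

universe v u

open CategoryTheory CategoryTheory.Limits
attribute [local instance] HasDerivedCategory.standard

noncomputable section

namespace Groth.Agent.TorsInj

variable {A : Type u} [Category.{v} A] [Abelian A] [IsGrothendieckAbelian.{v} A]

/-- Morphisms into a K-injective complex factor through an injective model of their source. -/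
theorem exists_model_factor_gen (L I : CochainComplex A ℤ) [I.IsKInjective]
    (g : (HomotopyCategory.quotient A (ComplexShape.up ℤ)).obj L ⟶
      (HomotopyCategory.quotient A (ComplexShape.up ℤ)).obj I) :
    ∃ (J : CochainComplex A ℤ)
      (f : (HomotopyCategory.quotient A (ComplexShape.up ℤ)).obj L ⟶
        (HomotopyCategory.quotient A (ComplexShape.up ℤ)).obj J)
      (g' : (HomotopyCategory.quotient A (ComplexShape.up ℤ)).obj J ⟶
        (HomotopyCategory.quotient A (ComplexShape.up ℤ)).obj I), J.IsKInjective ∧
      (∀ n, Injective (J.X n)) ∧ f ≫ g' = g ∧ IsIso (DerivedCategory.Qh.map f) := by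
  obtain ⟨J, φ, hJ, hq, -, hinj⟩ := KInj.exists_isKInjective_resolution L
  haveI := hJ
  haveI := hq
  let q := HomotopyCategory.quotient A (ComplexShape.up ℤ)
  haveI hφ : IsIso (DerivedCategory.Qh.map (q.map φ)) :=
    (NatIso.isIso_map_iff (DerivedCategory.quotientCompQhIso A) φ).2 inferInstance
  obtain ⟨g', hg'⟩ := (CochainComplex.IsKInjective.Qh_map_bijective (q.obj J) I).surjective
    (inv (DerivedCategory.Qh.map (q.map φ)) ≫ DerivedCategory.Qh.map g)
  refine ⟨J, q.map φ, g', hJ, hinj, (CochainComplex.IsKInjective.Qh_map_bijective (q.obj L) I).injective ?_, hφ⟩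
  rw [Functor.map_comp, hg', IsIso.hom_inv_id_assoc]

end Groth.Agent.TorsInj
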