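import Groth.Agent.TorsInjLib.Derived
import Groth.Agent.TorsInjLib.Models

/-!
# The derived torsion functor is idempotent
-/

set_option autoImplicit false
set_option linter.style.haveILetI false
set_option linter.unusedVariables false
set_option backward.isDefEq.respectTransparency false
set_option backward.isDefEq.respectTransparency.types false
set_option maxHeartbeats 2000000

universe u

open CategoryTheory CategoryTheory.Limits AlgebraicGeometry TopologicalSpace Opposite
attribute [local instance] HasDerivedCategory.standard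

noncomputable section

namespace Groth.Agent.TorsInj

open Groth.Agent.FCompl

variable {𝔛 : FSch.Sys.{u}} {h : 𝔛.IsFormal}

/-- On a torsion module the inclusion of the torsion submodule is an isomorphism. -/
theorem isIso_gammaTι_of_isT (M : FSch.ModF 𝔛 h) (hM : IsT M) : IsIso ((FTors.gammaTι 𝔛 h).app M) := by
  refine FPLocal.isIso_of_locally _ (fun V s => FPLocal.Locally.of_self fun W g =>
    ⟨⟨FPLocal.mres M g.op s, hM W _⟩, rfl⟩) fun V s hs => FPLocal.Locally.of_self fun W g => ?_
  rw [show s = 0 from Subtype.ext hs]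
  exact map_zero _

/-- `Γ'` applied to the inclusion of the torsion submodule is an isomorphism. -/
theorem isIso_gammaT_map_ι (M : FSch.ModF 𝔛 h) : IsIso ((FTors.gammaT 𝔛 h).map ((FTors.gammaTι 𝔛 h).app M)) := by
  haveI := isIso_gammaTι_of_isT _ (isT_gammaT M)
  refine FPLocal.isIso_of_locally _ (fun V s => FPLocal.Locally.of_self fun W g =>
    ⟨⟨FPLocal.mres ((FTors.gammaT 𝔛 h).obj M) g.op s, isT_gammaT M W _⟩, rfl⟩)
    fun V s hs => FPLocal.Locally.of_self fun W g => ?_
  rw [show s = 0 from Subtype.ext (Subtype.ext (congrArg Subtype.val hs))]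
  exact map_zero _

theorem isIso_gammaKh_gammaCx (K : CochainComplex (FSch.ModF 𝔛 h) ℤ) :
    IsIso ((FTors.gammaKh (FTors.openIdealFam 𝔛 h)).map ((HomotopyCategory.quotient _ _).map (gammaCx K))) := by
  haveI : ∀ j, IsIso ((((FTors.gammaT 𝔛 h).mapHomologicalComplex (ComplexShape.up ℤ)).map (gammaCx K)).f j) :=
    fun j => by
      show IsIso ((FTors.gammaT 𝔛 h).map ((gammaCx K).f j))
      have e : (gammaCx K).f j = (FTors.gammaTι 𝔛 h).app (K.X j) := Category.comp_id _
      rw [e]
      exact isIso_gammaT_map_ι _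
  haveI : IsIso (((FTors.gammaT 𝔛 h).mapHomologicalComplex (ComplexShape.up ℤ)).map (gammaCx K)) :=
    HomologicalComplex.Hom.isIso_of_components _
  exact (NatIso.isIso_map_iff (Functor.isoWhiskerRight
    ((FTors.gammaT 𝔛 h).mapHomotopyCategoryFactors (ComplexShape.up ℤ)) DerivedCategory.Qh) (gammaCx K)).2
      (inferInstanceAs (IsIso (DerivedCategory.Qh.map ((HomotopyCategory.quotient _ _).map _))))

theorem isIso_gammaτ_app_of_isT (K : CochainComplex (FSch.ModF 𝔛 h) ℤ) (hK : ∀ j, IsT (K.X j)) :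
    IsIso ((FTors.gammaτ (FTors.openIdealFam 𝔛 h)).app (hq K)) := by
  haveI : ∀ j, IsIso ((gammaCx K).f j) := fun j => by
    rw [show (gammaCx K).f j = (FTors.gammaTι 𝔛 h).app (K.X j) from Category.comp_id _]
    exact isIso_gammaTι_of_isT _ (hK j)
  haveI : IsIso (gammaCx K) := HomologicalComplex.Hom.isIso_of_components _
  rw [gammaτ_app_eq]
  infer_instance

/-- The formal part of the idempotency of a derived subfunctor of the identity. -/
theorem isIso_map_counit {H D : Type*} [Category H] [Category D] {Q G : H ⥤ D} {R : D ⥤ D} (α : G ⟶ Q ⋙ R)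
    (τ : G ⟶ Q) (ε : R ⟶ 𝟭 D) (hfac : ∀ X, α.app X ≫ ε.app (Q.obj X) = τ.app X) {I L J : H} (g : L ⟶ I)
    (f : L ⟶ J) (g' : J ⟶ I) (hfg : f ≫ g' = g) (p : G.obj I ⟶ Q.obj L) [IsIso p] (hτ : τ.app I = p ≫ Q.map g)
    [IsIso (Q.map f)] [IsIso (τ.app J)] [IsIso (τ.app L)] [IsIso (G.map g)] [IsIso (α.app I)] [IsIso (α.app J)] :
    IsIso (R.map (ε.app (Q.obj I))) := by
  haveI : IsIso (G.map f) := by
    haveI : IsIso (G.map f ≫ τ.app J) := by rw [τ.naturality]; infer_instance
    exact IsIso.of_isIso_comp_right _ (τ.app J)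
  haveI : IsIso (G.map g') := by
    haveI : IsIso (G.map f ≫ G.map g') := by rw [← G.map_comp, hfg]; infer_instance
    exact IsIso.of_isIso_comp_left (G.map f) _
  haveI : IsIso (R.map (Q.map g')) := by
    haveI : IsIso (α.app J ≫ R.map (Q.map g')) := by
      rw [← Functor.comp_map, ← α.naturality]; infer_instance
    exact IsIso.of_isIso_comp_left (α.app J) _
  haveI : IsIso (R.map (Q.map g)) := by
    rw [← hfg, Q.map_comp, R.map_comp]
    infer_instance
  have e : ε.app (Q.obj I) = inv (α.app I) ≫ p ≫ Q.map g := by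
    rw [← hτ, ← hfac, IsIso.inv_hom_id_assoc]
  rw [e]
  simp only [Functor.map_comp]
  infer_instance

variable [FTors.HasRgammaT 𝔛 h]

/-- `RΓ'` inverts the map to the identity. -/
theorem isIso_RgammaT_map_ε (hL : 𝔛.IsLocNoethFormal) (E : DerivedCategory (FSch.ModF 𝔛 h)) :
    IsIso ((FTors.RgammaT 𝔛 h).map ((FTors.RgammaTε 𝔛 h).app E)) := by
  obtain ⟨I, hI, hinj, ⟨e⟩⟩ := exists_injective_model E
  haveI := hI
  haveI := isIso_unitR_app I
  let L := ((FTors.gammaT 𝔛 h).mapHomologicalComplex (ComplexShape.up ℤ)).obj I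
  haveI : IsGrothendieckAbelian.{u} (FSch.ModF 𝔛 h) := S0484.result _ _
  obtain ⟨J, f, g', hJ, hinjJ, hfg, hf⟩ :=
    exists_model_factor_gen (A := FSch.ModF 𝔛 h) L I ((HomotopyCategory.quotient _ _).map (gammaCx I))
  haveI := hJ
  haveI := isIso_unitR_app J
  haveI := hf
  haveI := isIso_gammaτ_app hL J hinjJ fun i => isT_of_iso (hmodIso J i)
    (isDTorsF_of_iso (asIso (DerivedCategory.Qh.map f))
      (isDTorsF_of_isT hL L fun i => isT_gammaT (I.X i)) i)
  haveI := isIso_gammaτ_app_of_isT L fun j => isT_gammaT (I.X j)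
  haveI := isIso_gammaKh_gammaCx I
  haveI := isIso_map_counit (unitR (𝔛 := 𝔛) (h := h)) (FTors.gammaτ (FTors.openIdealFam 𝔛 h))
    (FTors.RgammaTε 𝔛 h) unitR_comp_ε ((HomotopyCategory.quotient _ _).map (gammaCx I)) f g' hfg
    (DerivedCategory.Qh.map (((FTors.gammaT 𝔛 h).mapHomotopyCategoryFactors (ComplexShape.up ℤ)).hom.app I))
    (gammaτ_app_eq I)
  exact (NatTrans.isIso_app_iff_of_iso (Functor.whiskerRight (FTors.RgammaTε 𝔛 h) (FTors.RgammaT 𝔛 h)) e).1 this

/-- The universal property of an idempotent coreflection. -/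
theorem bijective_comp_counit {D : Type*} [Category D] {R : D ⥤ D} (ε : R ⟶ 𝟭 D) (E F : D) [IsIso (ε.app E)]
    [IsIso (R.map (ε.app F))] : Function.Bijective (fun φ : E ⟶ R.obj F => φ ≫ ε.app F) := by
  have key : ∀ {Y : D} (φ : E ⟶ Y), inv (ε.app E) ≫ R.map φ ≫ ε.app Y = φ := fun {Y} φ => by
    rw [ε.naturality φ, IsIso.inv_hom_id_assoc, Functor.id_map]
  refine ⟨fun φ φ' e => ?_, fun φ => ⟨inv (ε.app E) ≫ R.map φ, ?_⟩⟩
  · rw [← key φ, ← key φ']
    have e' : R.map φ = R.map φ' := by
      rw [← cancel_mono (R.map (ε.app F)), ← R.map_comp, ← R.map_comp]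
      exact congrArg R.map e
    rw [e']
  · exact (Category.assoc _ _ _).trans (key φ)

end Groth.Agent.TorsInj
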