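import Groth.Agent.TorsInjLib.QIso
import Groth.Agent.FComplLib.QtColim
import Groth.Agent.KInj.Derived
import Groth.Agent.KInj.Lifting
import Groth.Agent.ModTensor.Basic
import Groth.Agent.S0484
import Groth.Prelude.Def_FTors2

/-!
# The derived torsion functor and complexes with torsion cohomology
-/

set_option autoImplicit false
set_option linter.style.haveILetI false
set_option linter.unusedVariables false
set_option backward.isDefEq.respectTransparency false
set_option backward.isDefEq.respectTransparency.types false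
set_option maxHeartbeats 2000000

universe u

open CategoryTheory CategoryTheory.Limits AlgebraicGeometry TopologicalSpace Opposite
attribute [local instance] HasDerivedCategory.standard

noncomputable section

namespace Groth.Agent.TorsInj

open Groth.Agent.FCompl

variable {𝔛 : FSch.Sys.{u}} {h : 𝔛.IsFormal}

/-- The homotopy class of a complex of modules. -/
abbrev hq (K : CochainComplex (FSch.ModF 𝔛 h) ℤ) : HomotopyCategory (FSch.ModF 𝔛 h) (ComplexShape.up ℤ) :=
  (HomotopyCategory.quotient (FSch.ModF 𝔛 h) (ComplexShape.up ℤ)).obj K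

theorem hres (h : 𝔛.IsFormal) (K : CochainComplex (FSch.ModF 𝔛 h) ℤ) :
    ∃ (I : CochainComplex (FSch.ModF 𝔛 h) ℤ) (f : K ⟶ I), I.IsKInjective ∧ QuasiIso f :=
  haveI : IsGrothendieckAbelian.{u} (FSch.ModF 𝔛 h) := S0484.result _ _
  KInj.hres_of_isGrothendieckAbelian (FSch.ModF 𝔛 h) K

/-- Every object of the derived category has a K-injective model with injective terms. -/
theorem exists_injective_model (E : DerivedCategory (FSch.ModF 𝔛 h)) :
    ∃ (I : CochainComplex (FSch.ModF 𝔛 h) ℤ), I.IsKInjective ∧ (∀ n, Injective (I.X n)) ∧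
      Nonempty ((DerivedCategory.Qh (C := FSch.ModF 𝔛 h)).obj (hq I) ≅ E) := by
  haveI : IsGrothendieckAbelian.{u} (FSch.ModF 𝔛 h) := S0484.result _ _
  obtain ⟨I, φ, h1, h2, -, h3⟩ := KInj.exists_isKInjective_resolution
    ((DerivedCategory.Q (C := FSch.ModF 𝔛 h)).objPreimage E)
  haveI := h2
  exact ⟨I, h1, h3, ⟨(DerivedCategory.quotientCompQhIso _).app I ≪≫ (asIso (DerivedCategory.Q.map φ)).symm ≪≫
    DerivedCategory.Q.objObjPreimageIso E⟩⟩

/-- Cohomology of the class of a complex. -/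
def hmodIso (K : CochainComplex (FSch.ModF 𝔛 h) ℤ) (i : ℤ) :
    SiteCmp.HMod (DerivedCategory.Qh.obj (hq K)) i ≅ K.homology i :=
  (DerivedCategory.homologyFunctor (FSch.ModF 𝔛 h) i).mapIso ((DerivedCategory.quotientCompQhIso _).app K) ≪≫
    (DerivedCategory.homologyFunctorFactors (FSch.ModF 𝔛 h) i).app K

theorem isDTorsF_of_iso {E F : DerivedCategory (FSch.ModF 𝔛 h)} (e : E ≅ F) (hE : FTors.IsDTorsF 𝔛 h E) :
    FTors.IsDTorsF 𝔛 h F :=
  fun i => isT_of_iso ((DerivedCategory.homologyFunctor (FSch.ModF 𝔛 h) i).mapIso e) (hE i)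

/-- Complexes of torsion modules have torsion homology. -/
theorem isT_homology (hL : 𝔛.IsLocNoethFormal) (K : CochainComplex (FSch.ModF 𝔛 h) ℤ) (hK : ∀ i, IsT (K.X i))
    (i : ℤ) : IsT (K.homology i) :=
  isT_of_epi (K.homologyπ i) (isT_of_mono hL (K.iCycles i) (hK i))

theorem isDTorsF_of_isT (hL : 𝔛.IsLocNoethFormal) (K : CochainComplex (FSch.ModF 𝔛 h) ℤ) (hK : ∀ i, IsT (K.X i)) :
    FTors.IsDTorsF 𝔛 h (DerivedCategory.Qh.obj (hq K)) :=
  fun i => isT_of_iso (hmodIso K i).symm (isT_homology hL K hK i)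

/-- The comparison of `Γ'` with the identity, on complexes. -/
theorem gammaτ_app_eq (K : CochainComplex (FSch.ModF 𝔛 h) ℤ) :
    (FTors.gammaτ (FTors.openIdealFam 𝔛 h)).app (hq K) =
      DerivedCategory.Qh.map (((FTors.gammaT 𝔛 h).mapHomotopyCategoryFactors (ComplexShape.up ℤ)).hom.app K) ≫
        DerivedCategory.Qh.map ((HomotopyCategory.quotient _ _).map (gammaCx K)) := by
  rw [gammaCx, Functor.map_comp, Functor.map_comp]
  show (FTors.gammaτ0 (FTors.openIdealFam 𝔛 h)).app K = _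
  simp only [FTors.gammaτ0, NatTrans.comp_app, Functor.associator_inv_app, Functor.associator_hom_app,
    Functor.whiskerRight_app, Functor.leftUnitor_hom_app, Category.id_comp, Category.comp_id, Functor.comp_map,
    Category.assoc]
  rfl

/-- The comparison of `Γ'` with the identity on a complex of injectives with torsion cohomology. -/
theorem isIso_gammaτ_app (hL : 𝔛.IsLocNoethFormal) (K : CochainComplex (FSch.ModF 𝔛 h) ℤ)
    (hinj : ∀ i, Injective (K.X i)) (hH : ∀ i, IsT (K.homology i)) :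
    IsIso ((FTors.gammaτ (FTors.openIdealFam 𝔛 h)).app (hq K)) := by
  haveI : QuasiIso (gammaCx K) := quasiIso_gammaCx K hL hinj hH
  haveI : IsIso (DerivedCategory.Qh.map ((HomotopyCategory.quotient _ _).map (gammaCx K))) :=
    (NatIso.isIso_map_iff (DerivedCategory.quotientCompQhIso (FSch.ModF 𝔛 h)) (gammaCx K)).2 inferInstance
  rw [gammaτ_app_eq]
  infer_instance

variable [FTors.HasRgammaT 𝔛 h]

/-- The unit of the derived torsion functor. -/
abbrev unitR : FTors.gammaKh (FTors.openIdealFam 𝔛 h) ⟶ DerivedCategory.Qh ⋙ FTors.RgammaT 𝔛 h :=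
  (FTors.gammaKh (FTors.openIdealFam 𝔛 h)).totalRightDerivedUnit DerivedCategory.Qh
    (HomotopyCategory.quasiIso (FSch.ModF 𝔛 h) (ComplexShape.up ℤ))

theorem isIso_unitR_app (K : CochainComplex (FSch.ModF 𝔛 h) ℤ) [K.IsKInjective] : IsIso (unitR.app (hq K)) :=
  KInj.isIso_app_of_isKInjective (hres h) _ (FTors.RgammaT 𝔛 h) unitR K

theorem unitR_comp_ε (X : HomotopyCategory (FSch.ModF 𝔛 h) (ComplexShape.up ℤ)) :
    unitR.app X ≫ (FTors.RgammaTε 𝔛 h).app (DerivedCategory.Qh.obj X) =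
      (FTors.gammaτ (FTors.openIdealFam 𝔛 h)).app X := by
  have := (FTors.RgammaT 𝔛 h).rightDerived_fac_app unitR (HomotopyCategory.quasiIso (FSch.ModF 𝔛 h) (ComplexShape.up ℤ))
    (𝟭 (DerivedCategory (FSch.ModF 𝔛 h)))
    (FTors.gammaτ (FTors.openIdealFam 𝔛 h) ≫ (Functor.rightUnitor _).inv) X
  refine this.trans ?_
  simp

/-- `RΓ'` has torsion cohomology. -/
theorem isDTorsF_RgammaT (hL : 𝔛.IsLocNoethFormal) (E : DerivedCategory (FSch.ModF 𝔛 h)) :
    FTors.IsDTorsF 𝔛 h ((FTors.RgammaT 𝔛 h).obj E) := by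
  obtain ⟨I, hI, hinj, ⟨e⟩⟩ := exists_injective_model E
  haveI := hI
  haveI := isIso_unitR_app I
  refine isDTorsF_of_iso (asIso (unitR.app (hq I)) ≪≫ (FTors.RgammaT 𝔛 h).mapIso e) ?_
  exact isDTorsF_of_iso
    (DerivedCategory.Qh.mapIso (((FTors.gammaT 𝔛 h).mapHomotopyCategoryFactors (ComplexShape.up ℤ)).app I)).symm
    (isDTorsF_of_isT hL _ fun i => isT_gammaT (I.X i))

/-- An object with torsion cohomology is its own derived torsion. -/
theorem isIso_ε_app (hL : 𝔛.IsLocNoethFormal) (E : DerivedCategory (FSch.ModF 𝔛 h))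
    (hE : FTors.IsDTorsF 𝔛 h E) : IsIso ((FTors.RgammaTε 𝔛 h).app E) := by
  obtain ⟨I, hI, hinj, ⟨e⟩⟩ := exists_injective_model E
  haveI := hI
  haveI := isIso_unitR_app I
  have hH : ∀ i, IsT (I.homology i) := fun i => isT_of_iso (hmodIso I i) (isDTorsF_of_iso e.symm hE i)
  haveI := isIso_gammaτ_app hL I hinj hH
  haveI : IsIso ((FTors.RgammaTε 𝔛 h).app (DerivedCategory.Qh.obj (hq I))) :=
    IsIso.of_isIso_fac_left (unitR_comp_ε (hq I))
  exact (NatTrans.isIso_app_iff_of_iso (FTors.RgammaTε 𝔛 h) e).1 inferInstance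

end Groth.Agent.TorsInj
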