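import Groth.Agent.TorsInjLib.Core
import Mathlib.Algebra.Homology.HomologySequence
import Mathlib.Algebra.Homology.HomologicalComplexAbelian

/-!
# The torsion subcomplex of a complex of injectives with torsion homology
-/

set_option autoImplicit false
set_option linter.style.haveILetI false
set_option linter.unusedVariables false
set_option backward.isDefEq.respectTransparency false
set_option backward.isDefEq.respectTransparency.types false
set_option maxHeartbeats 2000000

universe u

open CategoryTheory CategoryTheory.Limits AlgebraicGeometry TopologicalSpace Opposite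

noncomputable section

namespace Groth.Agent.TorsInj

open Groth.Agent.FCompl

variable {𝔛 : FSch.Sys.{u}} {h : 𝔛.IsFormal}

/-- Exactness of a short complex of sheaves of modules from local lifts of sections. -/
theorem exact_of_locally {C : Type u} [SmallCategory C] {J : GrothendieckTopology C} {O : Sheaf J CommRingCat.{u}}
    (S : ShortComplex (ModSite.Mod O))
    (H : ∀ (V : C) (z : S.X₂.val.obj (op V)), (S.g.val.app (op V)).hom z = 0 →
      FPLocal.Locally J V fun W g =>
        ∃ t : S.X₁.val.obj (op W), (S.f.val.app (op W)).hom t = FPLocal.mres S.X₂ g.op z) : S.Exact := by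
  rw [S.exact_iff_epi_kernel_lift]
  refine FPLocal.epi_of_exists_preimage _ fun V y => ?_
  obtain ⟨T, hT, hT'⟩ := H V (((kernel.ι S.g).val.app (op V)).hom y)
    (congrArg (fun φ : kernel S.g ⟶ S.X₃ => (φ.val.app (op V)).hom y) (kernel.condition S.g))
  refine ⟨T, hT, fun W g hg => ?_⟩
  obtain ⟨t, ht⟩ := hT' g hg
  refine ⟨t, FPLocal.app_injective_of_mono (kernel.ι S.g) W ?_⟩
  rw [FPLocal.app_mres, ← ht]
  exact congrArg (fun φ : S.X₁ ⟶ S.X₂ => (φ.val.app (op W)).hom t) (kernel.lift_ι S.g S.f S.zero)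

/-- The short exact sequence of a monomorphism and its cokernel. -/
theorem shortExact_cokernel {A : Type*} [Category A] [Abelian A] {X Y : A} (f : X ⟶ Y) [Mono f] :
    (ShortComplex.mk f (cokernel.π f) (cokernel.condition f)).ShortExact :=
  { exact := ShortComplex.exact_of_g_is_cokernel _ (cokernelIsCokernel f) }

variable (K : CochainComplex (FSch.ModF 𝔛 h) ℤ)

/-- The inclusion of the torsion subcomplex. -/
def gammaCx : ((FTors.gammaT 𝔛 h).mapHomologicalComplex (ComplexShape.up ℤ)).obj K ⟶ K :=
  (NatTrans.mapHomologicalComplex (FTors.gammaTι 𝔛 h) (ComplexShape.up ℤ)).app K ≫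
    (Functor.mapHomologicalComplexIdIso (FSch.ModF 𝔛 h) (ComplexShape.up ℤ)).hom.app K

theorem gammaCx_f (j : ℤ) (V : (𝔛.X 0).Opens)
    (s : ((FTors.gammaT 𝔛 h).obj (K.X j)).val.obj (op V)) :
    (((gammaCx K).f j).val.app (op V)).hom s = s.1 := rfl

instance mono_gammaCx_f (j : ℤ) : Mono ((gammaCx K).f j) := by
  refine FPLocal.mono_of_locally_zero _ fun V s hs => FPLocal.Locally.of_self fun W g => ?_
  rw [gammaCx_f] at hs
  rw [show s = 0 from Subtype.ext hs]
  exact map_zero _

instance mono_gammaCx : Mono (gammaCx K) := HomologicalComplex.mono_of_mono_f _ inferInstance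

/-- The inclusion of the torsion subcomplex of a complex of injectives with torsion homology is a
quasi-isomorphism. -/
theorem quasiIso_gammaCx (hL : 𝔛.IsLocNoethFormal) (hinj : ∀ i, Injective (K.X i))
    (hH : ∀ i, IsT (K.homology i)) : QuasiIso (gammaCx K) := by
  let S : ShortComplex (CochainComplex (FSch.ModF 𝔛 h) ℤ) :=
    ShortComplex.mk (gammaCx K) (cokernel.π (gammaCx K)) (cokernel.condition _)
  have hS : S.ShortExact := shortExact_cokernel (gammaCx K)
  have hSj : ∀ j, (S.map (HomologicalComplex.eval _ _ j)).ShortExact :=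
    (HomologicalComplex.shortExact_iff_degreewise_shortExact S).1 hS
  have hC : ∀ j, S.X₃.ExactAt j := fun j => by
    rw [HomologicalComplex.exactAt_iff' _ (j - 1) j (j + 1)
      ((ComplexShape.up ℤ).prev_eq' (sub_add_cancel j 1)) ((ComplexShape.up ℤ).next_eq' rfl)]
    refine exact_of_locally _ fun V c hc => ?_
    have hc' : ((S.X₃.d j (j + 1)).val.app (op V)).hom c = 0 := hc
    haveI : Epi (S.g.f j) := (hSj j).epi_g
    refine FPLocal.Locally.bind (FPLocal.locally_preimage (S.g.f j) c) fun W g hs => ?_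
    obtain ⟨s, hs⟩ := hs
    have hds : ((S.g.f (j + 1)).val.app (op W)).hom (dd K j (j + 1) s) = 0 := by
      rw [show ((S.g.f (j + 1)).val.app (op W)).hom (dd K j (j + 1) s) =
        ((S.X₃.d j (j + 1)).val.app (op W)).hom (((S.g.f j).val.app (op W)).hom s) from
          congrArg (fun φ : K.X j ⟶ S.X₃.X (j + 1) => (φ.val.app (op W)).hom s) (S.g.comm j (j + 1)).symm,
        hs, FPLocal.app_mres, hc', map_zero]
    haveI : Mono (S.map (HomologicalComplex.eval _ _ (j + 1))).f := (hSj (j + 1)).mono_f
    obtain ⟨y, hy⟩ := FPLocal.exists_preimage_of_mono_exact _ (hSj (j + 1)).exact (dd K j (j + 1) s) hds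
    refine (locally_exists_sub_torsion hL hinj hH (sub_add_cancel j 1) rfl s ?_).mono fun Z k hk => ?_
    · rw [← show y.1 = dd K j (j + 1) s from hy]
      exact y.2
    obtain ⟨t, ht⟩ := hk
    refine ⟨((S.g.f (j - 1)).val.app (op Z)).hom t, ?_⟩
    let y' : ((FTors.gammaT 𝔛 h).obj (K.X j)).val.obj (op Z) := ⟨_, ht⟩
    have h0 : ((S.g.f j).val.app (op Z)).hom (FPLocal.mres (K.X j) k.op s - dd K (j - 1) j t) = 0 :=
      congrArg (fun φ : ((FTors.gammaT 𝔛 h).obj (K.X j)) ⟶ S.X₃.X j => (φ.val.app (op Z)).hom y')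
        (HomologicalComplex.congr_hom S.zero j)
    rw [map_sub, sub_eq_zero, FPLocal.app_mres, hs] at h0
    show ((S.X₃.d (j - 1) j).val.app (op Z)).hom _ = FPLocal.mres (S.X₃.X j) (k ≫ g).op c
    rw [FPLocal.mres_comp', h0]
    exact congrArg (fun φ : K.X (j - 1) ⟶ S.X₃.X j => (φ.val.app (op Z)).hom t) (S.g.comm (j - 1) j)
  have hC0 : ∀ j, IsZero (S.X₃.homology j) := fun j => (hC j).isZero_homology
  refine ⟨fun i => ?_⟩
  rw [quasiIsoAt_iff_isIso_homologyMap]
  haveI : Epi (HomologicalComplex.homologyMap S.f i) :=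
    (hS.homology_exact₂ i).epi_f ((hC0 i).eq_of_tgt _ _)
  haveI : Mono (HomologicalComplex.homologyMap S.f i) :=
    (hS.homology_exact₁ (i - 1) i (sub_add_cancel i 1)).mono_g ((hC0 (i - 1)).eq_of_src _ _)
  exact isIso_of_mono_of_epi (HomologicalComplex.homologyMap S.f i)

end Groth.Agent.TorsInj
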