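import Groth.Agent.TorsInjLib.GammaQC
import Groth.Agent.TorsInjLib.Derived

/-!
# The derived torsion functor on complexes with quasi-coherent cohomology
-/

set_option autoImplicit false
set_option linter.style.haveILetI false
set_option linter.unusedVariables false
set_option backward.isDefEq.respectTransparency false
set_option backward.isDefEq.respectTransparency.types false
set_option maxHeartbeats 2000000

universe u

open CategoryTheory CategoryTheory.Limits AlgebraicGeometry TopologicalSpace Opposite
attribute [local instance] HasDerivedCategory.standard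

noncomputable section

namespace Groth.Agent.TorsInj

open Groth.Agent.FCompl

variable {𝔛 : FSch.Sys.{u}} {h : 𝔛.IsFormal} [FTors.HasRgammaT 𝔛 h]

/-- `RΓ'` of a complex with quasi-coherent cohomology has quasi-coherent torsion cohomology. -/
theorem isDQCT_RgammaT (hL : 𝔛.IsLocNoethFormal) (E : DerivedCategory (FSch.ModF 𝔛 h))
    (hE : ∀ i : ℤ, SheafOfModules.IsQuasicoherent.{u} (SiteCmp.HMod E i)) :
    FTors.IsDQCT 𝔛 h ((FTors.RgammaT 𝔛 h).obj E) := fun i => by
  refine ⟨isDTorsF_RgammaT hL E i, ?_⟩
  obtain ⟨I, hI, hinj, ⟨e⟩⟩ := exists_injective_model E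
  haveI := hI
  haveI := isIso_unitR_app I
  have hQ : ∀ j, SheafOfModules.IsQuasicoherent.{u} (I.homology j) := fun j =>
    (SheafOfModules.isQuasicoherent (ModSite.ringSh (𝔛.Osh h))).prop_of_iso
      (((DerivedCategory.homologyFunctor (FSch.ModF 𝔛 h) j).mapIso e).symm ≪≫ hmodIso I j) (hE j)
  exact (SheafOfModules.isQuasicoherent (ModSite.ringSh (𝔛.Osh h))).prop_of_iso
    ((hmodIso (gCx I) i).symm ≪≫ (DerivedCategory.homologyFunctor (FSch.ModF 𝔛 h) i).mapIso
      ((DerivedCategory.Qh.mapIso (((FTors.gammaT 𝔛 h).mapHomotopyCategoryFactors (ComplexShape.up ℤ)).app I)).symm ≪≫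
        asIso (unitR.app (hq I)) ≪≫ (FTors.RgammaT 𝔛 h).mapIso e))
    (isQuasicoherent_homology_gamma hL hinj hQ i)

end Groth.Agent.TorsInj
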