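import Groth.Agent.KInj.DerivedAdj
import Groth.Agent.TildeD.Homology

/-!
# When an exact fully faithful left adjoint gives a fully faithful functor of derived categories
-/

set_option autoImplicit false
set_option linter.style.haveILetI false
set_option linter.unusedVariables false

universe w w' v u v₁ u₁

open CategoryTheory CategoryTheory.Limits

namespace Groth.Agent.TorsInj

variable {B : Type u} [Category.{v} B] [Abelian B] [HasDerivedCategory.{w} B]
  {A : Type u₁} [Category.{v₁} A] [Abelian A] [HasDerivedCategory.{w'} A]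

/-- The levelwise counit. -/
def counitCx {F : A ⥤ B} {G : B ⥤ A} (adj : F ⊣ G) [F.Additive] [G.Additive] (K : CochainComplex B ℤ) :
    (F.mapHomologicalComplex (ComplexShape.up ℤ)).obj ((G.mapHomologicalComplex (ComplexShape.up ℤ)).obj K) ⟶ K where
  f i := adj.counit.app (K.X i)
  comm' i j _ := (adj.counit.naturality (K.d i j)).symm

theorem isIso_map_unit {C D : Type*} [Category C] [Category D] {L : C ⥤ D} {R : D ⥤ C} (a : L ⊣ R) (Y : C)
    [IsIso (a.counit.app (L.obj Y))] : IsIso (L.map (a.unit.app Y)) :=
  haveI : IsIso (L.map (a.unit.app Y) ≫ a.counit.app (L.obj Y)) := by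
    exact (congrArg (fun f => IsIso f) (a.left_triangle_components Y)).mpr (inferInstanceAs (IsIso (𝟙 (L.obj Y))))
  IsIso.of_isIso_comp_right _ (a.counit.app (L.obj Y))

/-- An exact fully faithful left adjoint whose counit is a quasi-isomorphism on complexes of injectives with
cohomology in the image induces a fully faithful functor of derived categories, whose essential image is the
objects with cohomology in the image. -/
theorem fullyFaithful_mapDerived {F : A ⥤ B} {G : B ⥤ A} (adj : F ⊣ G) [F.Additive] [G.Additive]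
    [PreservesFiniteLimits F] [PreservesFiniteColimits F] [F.Full] [F.Faithful]
    (hres : ∀ K : CochainComplex B ℤ, ∃ (I : CochainComplex B ℤ) (f : K ⟶ I),
      I.IsKInjective ∧ QuasiIso f ∧ ∀ n, Injective (I.X n))
    (hkey : ∀ I : CochainComplex B ℤ, I.IsKInjective → (∀ n, Injective (I.X n)) →
      (∀ n, F.essImage (I.homology n)) → QuasiIso (counitCx adj I)) :
    F.mapDerivedCategory.Full ∧ F.mapDerivedCategory.Faithful ∧
      ∀ X : DerivedCategory B, F.mapDerivedCategory.essImage X ↔
        ∀ i, F.essImage ((DerivedCategory.homologyFunctor B i).obj X) := by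
  have hres' : ∀ K : CochainComplex B ℤ, ∃ (I : CochainComplex B ℤ) (f : K ⟶ I), I.IsKInjective ∧ QuasiIso f :=
    fun K => by
      obtain ⟨I, f, h1, h2, -⟩ := hres K
      exact ⟨I, f, h1, h2⟩
  let H := HomotopyCategory.quotient B (ComplexShape.up ℤ)
  let Φ := G.mapHomotopyCategory (ComplexShape.up ℤ) ⋙ (DerivedCategory.Qh (C := A))
  haveI := KInj.hasRightDerivedFunctor hres' Φ
  let W₁ := HomotopyCategory.quasiIso A (ComplexShape.up ℤ)
  let W₂ := HomotopyCategory.quasiIso B (ComplexShape.up ℤ)
  let RG := Φ.totalRightDerived (DerivedCategory.Qh (C := B)) W₂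
  let α := Φ.totalRightDerivedUnit (DerivedCategory.Qh (C := B)) W₂
  let lf := F.mapDerivedCategoryFactorsh
  haveI := Functor.isLeftDerivedFunctor_of_inverts (W := W₁) F.mapDerivedCategory lf
  haveI : (F.mapDerivedCategory ⋙ RG).IsLeftDerivedFunctor
      ((Functor.associator _ _ _).inv ≫ Functor.whiskerRight lf.hom RG) W₁ :=
    Functor.isLeftDerivedFunctor_of_inverts (W := W₁) (F.mapDerivedCategory ⋙ RG)
      ((Functor.associator _ _ _).symm ≪≫ Functor.isoWhiskerRight lf RG)
  haveI : (RG ⋙ F.mapDerivedCategory).IsRightDerivedFunctor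
      (Functor.whiskerRight α F.mapDerivedCategory ≫ (Functor.associator _ _ _).hom) W₂ :=
    KInj.isRightDerivedFunctor_of_isIso_h hres' _ _ fun I hI => by
      haveI := hI
      haveI := KInj.isIso_app_of_isKInjective hres' _ RG α I
      simp only [NatTrans.comp_app, Functor.associator_hom_app, Functor.whiskerRight_app]
      infer_instance
  let a := (KInj.homotopyAdjunction adj).derived W₁ W₂ lf.hom α
  have hcounit : ∀ X : DerivedCategory B,
      (∀ i, F.essImage ((DerivedCategory.homologyFunctor B i).obj X)) → IsIso (a.counit.app X) := fun X hX => by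
    obtain ⟨I, f, h1, h2, h3⟩ := hres (DerivedCategory.Q.objPreimage X)
    haveI := h1
    haveI := h2
    let e : DerivedCategory.Qh.obj (H.obj I) ≅ X :=
      (DerivedCategory.quotientCompQhIso B).app I ≪≫ (asIso (DerivedCategory.Q.map f)).symm ≪≫
        DerivedCategory.Q.objObjPreimageIso X
    have hH : ∀ n, F.essImage (I.homology n) := fun n =>
      Functor.essImage.ofIso ((DerivedCategory.homologyFunctor B n).mapIso
        (e.symm ≪≫ (DerivedCategory.quotientCompQhIso B).app I) ≪≫
          (DerivedCategory.homologyFunctorFactors B n).app I) (hX n)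
    haveI := hkey I h1 h3 hH
    haveI h4 : IsIso (DerivedCategory.Qh.map ((KInj.homotopyAdjunction adj).counit.app (H.obj I))) :=
      (NatIso.isIso_map_iff (DerivedCategory.quotientCompQhIso B) (counitCx adj I)).2 inferInstance
    haveI := KInj.isIso_app_of_isKInjective hres' _ RG α I
    have hfac := (KInj.homotopyAdjunction adj).derivedε_fac_app W₂ lf.hom α (H.obj I)
    have h5 : IsIso (a.counit.app (DerivedCategory.Qh.obj (H.obj I))) := IsIso.of_isIso_fac_left hfac
    exact (NatTrans.isIso_app_iff_of_iso a.counit e).1 h5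
  have hmem : ∀ (Y : DerivedCategory A) (i : ℤ),
      F.essImage ((DerivedCategory.homologyFunctor B i).obj (F.mapDerivedCategory.obj Y)) :=
    fun Y i => ⟨_, ⟨((TildeD.nu F i).app Y).symm⟩⟩
  haveI : IsIso a.unit := by
    haveI : ∀ Y, IsIso (a.unit.app Y) := fun Y => by
      haveI := hcounit _ (hmem Y)
      haveI : IsIso (F.mapDerivedCategory.map (a.unit.app Y)) := isIso_map_unit a Y
      rw [DerivedCategory.isIso_iff]
      intro i
      haveI : IsIso (F.map ((DerivedCategory.homologyFunctor A i).map (a.unit.app Y))) :=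
        (NatIso.isIso_map_iff (TildeD.nu F i) (a.unit.app Y)).1
          (inferInstanceAs (IsIso ((DerivedCategory.homologyFunctor B i).map (F.mapDerivedCategory.map (a.unit.app Y)))))
      exact isIso_of_reflects_iso _ F
    exact NatIso.isIso_of_isIso_app _
  haveI := a.fullyFaithfulLOfIsIsoUnit.full
  haveI := a.fullyFaithfulLOfIsIsoUnit.faithful
  refine ⟨inferInstance, inferInstance, fun X => ⟨?_, fun hX => ?_⟩⟩
  · rintro ⟨Y, ⟨e⟩⟩ i
    exact Functor.essImage.ofIso ((DerivedCategory.homologyFunctor B i).mapIso e) (hmem Y i)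
  · haveI := hcounit X hX
    exact ⟨RG.obj X, ⟨asIso (a.counit.app X)⟩⟩

end Groth.Agent.TorsInj
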