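import Groth.Agent.TorsInjLib.Derived
import Groth.Agent.TorsInjLib.FullFaithful

/-!
# The derived category of torsion modules
-/

set_option autoImplicit false
set_option linter.style.haveILetI false
set_option linter.unusedVariables false
set_option backward.isDefEq.respectTransparency false
set_option maxHeartbeats 2000000

universe u

open CategoryTheory CategoryTheory.Limits AlgebraicGeometry TopologicalSpace Opposite
attribute [local instance] HasDerivedCategory.standard

noncomputable section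

namespace Groth.Agent.TorsInj

open Groth.Agent.FCompl

variable {𝔛 : FSch.Sys.{u}} {h : 𝔛.IsFormal}

/-- The coreflector to torsion modules. -/
def coreflT : FSch.ModF 𝔛 h ⥤ (FTors.IsTorsF 𝔛 h).FullSubcategory :=
  (FTors.IsTorsF 𝔛 h).lift (FTors.gammaT 𝔛 h) isT_gammaT

theorem isIso_ι_app (N : (FTors.IsTorsF 𝔛 h).FullSubcategory) :
    IsIso ((FTors.gammaTι 𝔛 h).app N.obj) := by
  refine FPLocal.isIso_of_locally _ (fun V s => FPLocal.Locally.of_self fun W g =>
    ⟨⟨FPLocal.mres N.obj g.op s, N.property W _⟩, rfl⟩) fun V s hs => FPLocal.Locally.of_self fun W g => ?_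
  rw [show s = 0 from Subtype.ext hs]
  exact map_zero _

/-- Torsion modules are coreflective. -/
def adjT : (FTors.IsTorsF 𝔛 h).ι ⊣ coreflT (𝔛 := 𝔛) (h := h) :=
  Adjunction.mkOfUnitCounit
    { unit :=
        { app := fun N => ObjectProperty.homMk (haveI := isIso_ι_app N; inv ((FTors.gammaTι 𝔛 h).app N.obj))
          naturality := fun N N' φ => by
            haveI := isIso_ι_app N
            haveI := isIso_ι_app N'
            apply ObjectProperty.hom_ext
            show φ.hom ≫ inv _ = inv _ ≫ (FTors.gammaT 𝔛 h).map φ.hom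
            rw [IsIso.comp_inv_eq, Category.assoc, (FTors.gammaTι 𝔛 h).naturality φ.hom, IsIso.inv_hom_id_assoc]
            rfl }
      counit := FTors.gammaTι 𝔛 h
      left_triangle := by
        ext N : 2
        haveI := isIso_ι_app N
        simp only [NatTrans.comp_app, Functor.whiskerRight_app, Functor.whiskerLeft_app, Functor.associator_hom_app]
        refine (congrArg (_ ≫ ·) (Category.id_comp _)).trans ?_
        exact IsIso.inv_hom_id ((FTors.gammaTι 𝔛 h).app N.obj)
      right_triangle := by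
        ext M : 2
        haveI : IsIso ((FTors.gammaTι 𝔛 h).app ((FTors.gammaT 𝔛 h).obj M)) :=
          isIso_ι_app ⟨(FTors.gammaT 𝔛 h).obj M, isT_gammaT M⟩
        apply ObjectProperty.hom_ext
        simp only [NatTrans.comp_app, Functor.whiskerRight_app, Functor.whiskerLeft_app, Functor.associator_inv_app]
        show inv ((FTors.gammaTι 𝔛 h).app ((FTors.gammaT 𝔛 h).obj M)) ≫ 𝟙 _ ≫
          (FTors.gammaT 𝔛 h).map ((FTors.gammaTι 𝔛 h).app M) = 𝟙 _
        rw [Category.id_comp, IsIso.inv_comp_eq, Category.comp_id]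
        apply SheafOfModules.hom_ext
        ext X s
        exact Subtype.ext rfl }

theorem adjT_counit_app (M : FSch.ModF 𝔛 h) : (adjT (𝔛 := 𝔛) (h := h)).counit.app M = (FTors.gammaTι 𝔛 h).app M :=
  rfl

theorem essImage_iff (M : FSch.ModF 𝔛 h) : (FTors.IsTorsF 𝔛 h).ι.essImage M ↔ FTors.IsTorsF 𝔛 h M :=
  ⟨fun ⟨N, ⟨e⟩⟩ => isT_of_iso e N.property, fun hM => ⟨⟨M, hM⟩, ⟨Iso.refl _⟩⟩⟩

/-- The derived category of torsion modules is the category of objects with torsion cohomology. -/
theorem fullyFaithful_ι (hL : 𝔛.IsLocNoethFormal)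
    [(FTors.IsTorsF 𝔛 h).ContainsZero] [(FTors.IsTorsF 𝔛 h).IsClosedUnderKernels]
    [(FTors.IsTorsF 𝔛 h).IsClosedUnderCokernels] [(FTors.IsTorsF 𝔛 h).IsClosedUnderFiniteProducts]
    [PreservesFiniteLimits (FTors.IsTorsF 𝔛 h).ι] [PreservesFiniteColimits (FTors.IsTorsF 𝔛 h).ι] :
    (FTors.IsTorsF 𝔛 h).ι.mapDerivedCategory.Full ∧ (FTors.IsTorsF 𝔛 h).ι.mapDerivedCategory.Faithful ∧
      ∀ G : DerivedCategory (FSch.ModF 𝔛 h),
        (FTors.IsTorsF 𝔛 h).ι.mapDerivedCategory.essImage G ↔ FTors.IsDTorsF 𝔛 h G := by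
  haveI : IsGrothendieckAbelian.{u} (FSch.ModF 𝔛 h) := S0484.result _ _
  haveI : (coreflT (𝔛 := 𝔛) (h := h)).Additive := (adjT (𝔛 := 𝔛) (h := h)).right_adjoint_additive
  obtain ⟨h1, h2, h3⟩ := fullyFaithful_mapDerived (adjT (𝔛 := 𝔛) (h := h))
    (fun K => by
      obtain ⟨I, f, a, b, -, c⟩ := KInj.exists_isKInjective_resolution K
      exact ⟨I, f, a, b, c⟩)
    (fun I hI hinj hH => by
      haveI := quasiIso_gammaCx I hL hinj fun n => (essImage_iff _).1 (hH n)
      have e : counitCx (adjT (𝔛 := 𝔛) (h := h)) I = gammaCx I := by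
        apply HomologicalComplex.hom_ext
        intro i
        exact (Category.comp_id _).symm
      rw [e]
      assumption)
  exact ⟨h1, h2, fun G => (h3 G).trans (forall_congr' fun i => essImage_iff _)⟩

end Groth.Agent.TorsInj
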