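import Groth.Agent.TorsInjLib.QIso

/-!
# The amplitude of the torsion functor over an affine open
-/

set_option autoImplicit false
set_option linter.style.haveILetI false
set_option linter.unusedVariables false
set_option backward.isDefEq.respectTransparency false
set_option backward.isDefEq.respectTransparency.types false
set_option maxHeartbeats 2000000

universe u

open CategoryTheory CategoryTheory.Limits AlgebraicGeometry TopologicalSpace Opposite

noncomputable section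

namespace Groth.Agent.TorsInj

open Groth.Agent.FCompl

variable {𝔛 : FSch.Sys.{u}} {h : 𝔛.IsFormal} {U V W : (𝔛.X 0).Opens}
  {C : CochainComplex (FSch.ModF 𝔛 h) ℤ}

/-- In an exact complex of injectives, cycles killed by powers of a family are boundaries of sections killed by
powers of the family, far enough to the right. -/
theorem exists_bdry_of_exact (hL : 𝔛.IsLocNoethFormal) (hinj : ∀ i, Injective (C.X i)) (a : ℤ)
    (hex : ∀ j, a ≤ j → C.ExactAt j) (T : Finset (OR 𝔛 h U)) :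
    ∀ (i j l : ℤ), i + 1 = j → j + 1 = l → a + (T.card : ℤ) ≤ j →
      ∀ (Z : (𝔛.X 0).Opens) (hZ : Z ≤ U), IsAffineOpen Z → ∀ z : (C.X j).val.obj (op Z), dd C j l z = 0 →
        Kill T hZ z → ∀ x ∈ Z, ∃ (Z' : (𝔛.X 0).Opens) (hZ' : Z' ≤ Z), IsAffineOpen Z' ∧ x ∈ Z' ∧
          ∃ u : (C.X i).val.obj (op Z'), Kill T (hZ'.trans hZ) u ∧ dd C i j u = rs (C.X j) hZ' z := by
  classical
  induction T using Finset.induction with
  | empty =>
    intro i j l hij hjl haj Z hZ hZa z hz _ x hx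
    have e : (C.sc' i j l).Exact := (C.exactAt_iff' i j l ((ComplexShape.up ℤ).prev_eq' hij)
      ((ComplexShape.up ℤ).next_eq' hjl)).1 (hex j (by simpa using haj))
    obtain ⟨Z₀, l₀, hxZ₀, u, hu⟩ := FPLocal.Locally.near (FPLocal.locally_preimage_of_exact _ e z hz) hx
    obtain ⟨Z', hZ'a, hxZ', hZ'Z₀⟩ := exists_affine_le (𝔛 := 𝔛) hxZ₀
    refine ⟨Z', hZ'Z₀.trans (leOfHom l₀), hZ'a, hxZ', rs (C.X i) hZ'Z₀ u, Kill.empty, ?_⟩
    rw [dd_rs]
    exact (congrArg (rs (C.X j) hZ'Z₀) hu).trans (rs_rs hZ'Z₀ (leOfHom l₀) z)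
  | insert f T hfT ih =>
    intro i j l hij hjl haj Z hZ hZa z hz hzk x hx
    rw [Finset.card_insert_of_notMem hfT] at haj
    push_cast at haj
    obtain ⟨e, he⟩ := hzk
    obtain ⟨Z₁, hZ₁, hZ₁a, hxZ₁, u, hu, hdu⟩ := ih i j l hij hjl (by omega) Z hZ hZa z hz
      (Kill.mono (Finset.subset_insert f T) ⟨e, he⟩) x hx
    let g := rsO 𝔛 h (hZ₁.trans hZ) f
    obtain ⟨Z', hZ', hZ'a, hxZ', w, hw, hdw⟩ := ih (i - 1) i j (sub_add_cancel i 1) hij (by omega) Z₁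
      (hZ₁.trans hZ) hZ₁a (g ^ e • u)
      (by
        rw [dd_smul, hdu]
        have := congrArg (rs (C.X j) hZ₁) (he f (Finset.mem_insert_self f T))
        rw [mres_smul' hZ₁, map_zero, map_pow, rsO_comp] at this
        exact this) (hu.smul _) x hxZ₁
    haveI := hinj (i - 1)
    obtain ⟨n, t, ht, htw⟩ :=
      exists_divide hL (hZ'.trans (hZ₁.trans hZ)) hZ'a (rsO 𝔛 h hZ' g) e w hw
    refine ⟨Z', hZ'.trans hZ₁, hZ'a, hxZ', rs (C.X i) hZ' u - dd C (i - 1) i t,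
      ((hu.res hZ').sub (ht.hom (C.d (i - 1) i))).insert (e := e + n) ?_, ?_⟩
    · rw [show rsO 𝔛 h (hZ'.trans (hZ₁.trans hZ)) f = rsO 𝔛 h hZ' g from (rsO_comp _ _ f).symm]
      rw [smul_sub, ← dd_smul, htw, dd_smul, hdw, mres_smul' hZ', map_pow, ← mul_smul, ← pow_add, add_comm n e,
        sub_self]
    · rw [dd_sub, dd_dd, sub_zero, dd_rs, hdu, rs_rs]

/-- Over an affine open with generators of the ideal, the torsion subcomplex of an exact complex of injectives is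
exact far enough to the right. -/
theorem homology_gamma_eq_zero (hL : 𝔛.IsLocNoethFormal) (hinj : ∀ i, Injective (C.X i)) (a : ℤ)
    (hex : ∀ j, a ≤ j → C.ExactAt j) (hU : IsAffineOpen U) (T : Finset (OR 𝔛 h U))
    (hT : Ideal.span (T : Set (OR 𝔛 h U)) = II 𝔛 h U) (j : ℤ) (hj : a + (T.card : ℤ) ≤ j) (hW : W ≤ U)
    (s : ((((FTors.gammaT 𝔛 h).mapHomologicalComplex (ComplexShape.up ℤ)).obj C).homology j).val.obj (op W)) :
    s = 0 := by
  let Γ := ((FTors.gammaT 𝔛 h).mapHomologicalComplex (ComplexShape.up ℤ)).obj C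
  refine eq_zero_of_affine (Γ.homology j) s fun Z₀ hZ₀ _ => ?_
  refine FPLocal.eq_of_locally (M := Γ.homology j) (FPLocal.locally_of_near (fun A B q g e => ?_) fun x hx => ?_)
  · rw [FPLocal.mres_comp', e, ← FPLocal.mres_comp']
  obtain ⟨Z₁, l₁, hxZ₁, w, hw⟩ := FPLocal.Locally.near (FPLocal.locally_preimage (Γ.homologyπ j)
    (rs (Γ.homology j) hZ₀ s)) hx
  have hZ₁U : Z₁ ≤ U := (leOfHom l₁).trans (hZ₀.trans hW)
  let y : ((FTors.gammaT 𝔛 h).obj (C.X j)).val.obj (op Z₁) := ((Γ.iCycles j).val.app (op Z₁)).hom w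
  have hy : dd C j (j + 1) y.1 = 0 :=
    congrArg Subtype.val (congrArg (fun φ : Γ.cycles j ⟶ Γ.X (j + 1) => (φ.val.app (op Z₁)).hom w)
      (Γ.iCycles_d j (j + 1)))
  obtain ⟨Z₂, l₂, hxZ₂, n, hn⟩ := FPLocal.Locally.near ((isTorsSect_iff _).1 y.2) hxZ₁
  obtain ⟨Z, hZa, hxZ, hZZ₂⟩ := exists_affine_le (𝔛 := 𝔛) hxZ₂
  have hZZ₁ : Z ≤ Z₁ := hZZ₂.trans (leOfHom l₂)
  have hTm : ∀ a ∈ T, a ∈ II 𝔛 h U := fun a ha => by rw [← hT]; exact Ideal.subset_span ha
  have hk : KB (C.X j) n (rs (C.X j) hZZ₁ y.1) :=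
    (congrArg (KB (C.X j) n) (FPLocal.mres_comp (M := C.X j) l₂.op (homOfLE hZZ₂).op _)).mpr
      (hn.res (homOfLE hZZ₂))
  obtain ⟨Z', hZ', hZ'a, hxZ', u, hu, hdu⟩ := exists_bdry_of_exact hL hinj a hex T (j - 1) j (j + 1)
    (sub_add_cancel j 1) rfl hj Z (hZZ₁.trans hZ₁U) hZa (rs (C.X j) hZZ₁ y.1)
    (by rw [dd_rs, hy, map_zero]) (kill_of_kb hL hZa hTm hk) x hxZ
  obtain ⟨n', hn'⟩ := kb_of_kill hL hU hZ'a hT hu
  let u' : ((FTors.gammaT 𝔛 h).obj (C.X (j - 1))).val.obj (op Z') := ⟨u, FTors.IsTorsSect.of_killedBy hn'⟩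
  have hw' : ((Γ.toCycles (j - 1) j).val.app (op Z')).hom u' = rs (Γ.cycles j) (hZ'.trans hZZ₁) w := by
    refine FPLocal.app_injective_of_mono (Γ.iCycles j) Z' ?_
    rw [FPLocal.app_mres]
    refine (congrArg (fun φ : Γ.X (j - 1) ⟶ Γ.X j => (φ.val.app (op Z')).hom u') (Γ.toCycles_i (j - 1) j)).trans ?_
    exact Subtype.ext (hdu.trans (rs_rs _ _ _))
  refine ⟨Z', homOfLE ((hZ'.trans hZZ₁).trans (leOfHom l₁)), hxZ', ?_⟩
  refine Eq.trans ?_ (map_zero (FPLocal.mres (Γ.homology j) _)).symm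
  refine Eq.trans (FPLocal.mres_comp (M := Γ.homology j) l₁.op (homOfLE (hZ'.trans hZZ₁)).op _) ?_
  rw [← hw, ← FPLocal.app_mres]
  show ((Γ.homologyπ j).val.app (op Z')).hom (rs (Γ.cycles j) (hZ'.trans hZZ₁) w) = 0
  rw [← hw']
  exact congrArg (fun φ : Γ.X (j - 1) ⟶ Γ.homology j => (φ.val.app (op Z')).hom u')
    (Γ.toCycles_comp_homologyπ (j - 1) j)

end Groth.Agent.TorsInj
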