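import Mathlib.Algebra.Homology.DerivedCategory.HomologySequence
import Mathlib.Algebra.Homology.HomotopyCategory.MappingCone
import Mathlib.CategoryTheory.Preadditive.Injective.Basic

/-!
# The homology sequence of a mapping cone
-/

set_option autoImplicit false
set_option linter.style.haveILetI false

universe v u

open CategoryTheory CategoryTheory.Limits CochainComplex
attribute [local instance] HasDerivedCategory.standard

noncomputable section

namespace Groth.Agent.TorsInj

variable {A : Type u} [Category.{v} A] [Abelian A] {K R : CochainComplex A ℤ} (φ : K ⟶ R)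

theorem exact_of_iso' {X₁ X₂ X₃ Y₁ Y₂ Y₃ : A} (f : X₁ ⟶ X₂) (g : X₂ ⟶ X₃) (w : f ≫ g = 0)
    (e : (ShortComplex.mk f g w).Exact) (a : X₁ ≅ Y₁) (b : X₂ ≅ Y₂) (c : X₃ ≅ Y₃) {f' : Y₁ ⟶ Y₂} {g' : Y₂ ⟶ Y₃}
    (hf : a.inv ≫ f ≫ b.hom = f') (hg : b.inv ≫ g ≫ c.hom = g') :
    ∃ w' : f' ≫ g' = 0, (ShortComplex.mk f' g' w').Exact := by
  subst hf hg
  refine ⟨by simp [reassoc_of% w], ShortComplex.exact_of_iso (ShortComplex.isoMk a b c ?_ ?_) e⟩ <;> simp

/-- The homology sequence of a mapping cone. -/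
theorem exists_cone_exact (q p : ℤ) (hqp : q + 1 = p) :
    ∃ (π : R.homology q ⟶ (mappingCone φ).homology q) (δ : (mappingCone φ).homology q ⟶ K.homology p)
      (w₁ : HomologicalComplex.homologyMap φ q ≫ π = 0) (w₂ : π ≫ δ = 0)
      (w₃ : δ ≫ HomologicalComplex.homologyMap φ p = 0),
      (ShortComplex.mk _ _ w₁).Exact ∧ (ShortComplex.mk _ _ w₂).Exact ∧ (ShortComplex.mk _ _ w₃).Exact := by
  let T := DerivedCategory.Q.mapTriangle.obj (mappingCone.triangle φ)
  have hT : T ∈ Pretriangulated.distinguishedTriangles := DerivedCategory.mappingCone_triangle_distinguished φ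
  let e : ∀ (L : CochainComplex A ℤ) (n : ℤ),
      (DerivedCategory.homologyFunctor A n).obj (DerivedCategory.Q.obj L) ≅ L.homology n :=
    fun L n => (DerivedCategory.homologyFunctorFactors A n).app L
  have hn : ∀ n : ℤ, (e K n).inv ≫ (DerivedCategory.homologyFunctor A n).map T.mor₁ ≫ (e R n).hom =
      HomologicalComplex.homologyMap φ n := fun n =>
    (Iso.inv_comp_eq _).2 ((DerivedCategory.homologyFunctorFactors A n).hom.naturality φ)
  let π : R.homology q ⟶ (mappingCone φ).homology q :=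
    (e R q).inv ≫ (DerivedCategory.homologyFunctor A q).map T.mor₂ ≫ (e (mappingCone φ) q).hom
  let δ : (mappingCone φ).homology q ⟶ K.homology p :=
    (e (mappingCone φ) q).inv ≫ DerivedCategory.HomologySequence.δ T q p hqp ≫ (e K p).hom
  obtain ⟨w₁, h₁⟩ := exact_of_iso' _ _ _ (DerivedCategory.HomologySequence.exact₂ T hT q)
    (e K q) (e R q) (e (mappingCone φ) q) (hn q) (rfl : _ = π)
  obtain ⟨w₂, h₂⟩ := exact_of_iso' _ _ _ (DerivedCategory.HomologySequence.exact₃ T hT q p hqp)
    (e R q) (e (mappingCone φ) q) (e K p) (rfl : _ = π) (rfl : _ = δ)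
  obtain ⟨w₃, h₃⟩ := exact_of_iso' _ _ _ (DerivedCategory.HomologySequence.exact₁ T hT q p hqp)
    (e (mappingCone φ) q) (e K p) (e R p) (rfl : _ = δ) (hn p)
  exact ⟨π, δ, w₁, w₂, w₃, h₁, h₂, h₃⟩

/-- The terms of a mapping cone of complexes of injectives are injective. -/
theorem injective_mappingCone (hK : ∀ n, Injective (K.X n)) (hR : ∀ n, Injective (R.X n)) (n : ℤ) :
    Injective ((mappingCone φ).X n) := by
  haveI := hK (n + 1)
  haveI := hR n
  exact Injective.of_iso (HomologicalComplex.homotopyCofiber.XIsoBiprod φ n (n + 1) rfl).symm inferInstance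

end Groth.Agent.TorsInj
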