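import Groth.Agent.TorsInjLib.Amp
import Groth.Agent.TorsInjLib.Cone
import Groth.Agent.S0484

/-!
# The torsion functor in a range of degrees over an affine open
-/

set_option autoImplicit false
set_option linter.style.haveILetI false
set_option linter.unusedVariables false
set_option backward.isDefEq.respectTransparency false
set_option backward.isDefEq.respectTransparency.types false
set_option maxHeartbeats 2000000

universe u

open CategoryTheory CategoryTheory.Limits AlgebraicGeometry TopologicalSpace Opposite

noncomputable section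

namespace Groth.Agent.TorsInj

open Groth.Agent.FCompl

/-- A morphism which is injective and locally surjective on the sections below an object is bijective on them. -/
theorem bijective_app_of_locally {C : Type u} [SmallCategory C] {J : GrothendieckTopology C}
    {O : Sheaf J CommRingCat.{u}} {M N : ModSite.Mod O} (φ : M ⟶ N) {U : C}
    (hinj : ∀ ⦃W : C⦄ (g : W ⟶ U) (m : M.val.obj (op W)), (φ.val.app (op W)).hom m = 0 → m = 0)
    (hsurj : ∀ ⦃W : C⦄ (g : W ⟶ U) (n : N.val.obj (op W)),
      FPLocal.Locally J W fun Z l => ∃ m : M.val.obj (op Z), (φ.val.app (op Z)).hom m = FPLocal.mres N l.op n)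
    {W : C} (g : W ⟶ U) : Function.Bijective (φ.val.app (op W)).hom := by
  let ψ := (ModSite.restr O U).map φ
  haveI : IsIso ψ := FPLocal.isIso_of_locally ψ
    (fun V n => by
      obtain ⟨S, hS, hS'⟩ := hsurj V.hom n
      refine ⟨(Sieve.overEquiv V).symm S,
        (J.mem_over_iff _).2 (by rw [OrderIso.apply_symm_apply]; exact hS), fun Z l hl => ?_⟩
      exact hS' l.left hl)
    (fun V m hm => FPLocal.Locally.of_self fun Z l => by
      rw [hinj V.hom m hm]
      exact map_zero _)
  haveI : IsIso ((SheafOfModules.evaluation (ModSite.ringSh (O.over U)) (op (Over.mk g))).map ψ) := inferInstance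
  exact (ConcreteCategory.isIso_iff_bijective _).1 this

variable {𝔛 : FSch.Sys.{u}} {h : 𝔛.IsFormal} {U W : (𝔛.X 0).Opens}
  {K R : CochainComplex (FSch.ModF 𝔛 h) ℤ}

/-- A map of complexes of injectives which is an isomorphism in cohomology in high degrees is one after applying the
torsion functor in slightly higher degrees, over an affine open. -/
theorem bijective_gamma_sections (hL : 𝔛.IsLocNoethFormal) (hK : ∀ i, Injective (K.X i))
    (hR : ∀ i, Injective (R.X i)) (φ : K ⟶ R) (a : ℤ)
    (hφ : ∀ j, a ≤ j → IsIso (HomologicalComplex.homologyMap φ j)) (hU : IsAffineOpen U) (T : Finset (OR 𝔛 h U))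
    (hT : Ideal.span (T : Set (OR 𝔛 h U)) = II 𝔛 h U) (p : ℤ) (hp : a + (T.card : ℤ) + 1 ≤ p) (hW : W ≤ U) :
    Function.Bijective ((HomologicalComplex.homologyMap
      (((FTors.gammaT 𝔛 h).mapHomologicalComplex (ComplexShape.up ℤ)).map φ) p).val.app (op W)).hom := by
  let G := (FTors.gammaT 𝔛 h).mapHomologicalComplex (ComplexShape.up ℤ)
  let C := CochainComplex.mappingCone φ
  have hex : ∀ j, a ≤ j → C.ExactAt j := fun j hj => by
    rw [HomologicalComplex.exactAt_iff_isZero_homology]
    obtain ⟨π, δ, w₁, w₂, w₃, e₁, e₂, e₃⟩ := exists_cone_exact φ j (j + 1) rfl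
    haveI := hφ j hj
    haveI := hφ (j + 1) (by omega)
    exact e₂.isZero_X₂ (by
      show π = 0
      rw [← cancel_epi (HomologicalComplex.homologyMap φ j), w₁, comp_zero]) (by
      show δ = 0
      rw [← cancel_mono (HomologicalComplex.homologyMap φ (j + 1)), w₃, zero_comp])
  have hz : ∀ (q : ℤ), a + (T.card : ℤ) ≤ q → ∀ ⦃V : (𝔛.X 0).Opens⦄ (hV : V ≤ U)
      (c : ((CochainComplex.mappingCone (G.map φ)).homology q).val.obj (op V)), c = 0 := fun q hq V hV c => by
    let e := HomologicalComplex.homologyMap (CochainComplex.mappingCone.mapHomologicalComplexIso φ (FTors.gammaT 𝔛 h)).hom q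
    let e' := HomologicalComplex.homologyMap (CochainComplex.mappingCone.mapHomologicalComplexIso φ (FTors.gammaT 𝔛 h)).inv q
    have he : e' ≫ e = 𝟙 _ := by
      rw [← HomologicalComplex.homologyMap_comp, Iso.inv_hom_id, HomologicalComplex.homologyMap_id]
    have h0 : (e'.val.app (op V)).hom c = 0 :=
      homology_gamma_eq_zero hL (injective_mappingCone φ hK hR) a hex hU T hT q hq hV _
    have h1 : (e.val.app (op V)).hom ((e'.val.app (op V)).hom c) = c :=
      congrArg (fun f : (CochainComplex.mappingCone (G.map φ)).homology q ⟶ _ => (f.val.app (op V)).hom c) he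
    rw [← h1, h0, map_zero]
  refine bijective_app_of_locally _ (U := U) (fun V g m hm => ?_) (fun V g n => ?_) (homOfLE hW)
  · obtain ⟨π, δ, w₁, w₂, w₃, e₁, e₂, e₃⟩ := exists_cone_exact (G.map φ) (p - 1) p (sub_add_cancel p 1)
    refine FPLocal.eq_of_locally ((FPLocal.locally_preimage_of_exact _ e₃ m hm).mono fun Z l hl => ?_)
    obtain ⟨c, hc⟩ := hl
    rw [map_zero, ← hc, hz (p - 1) (by omega) ((leOfHom l).trans (leOfHom g)) c, map_zero]
  · obtain ⟨π, δ, w₁, w₂, w₃, e₁, e₂, e₃⟩ := exists_cone_exact (G.map φ) p (p + 1) rfl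
    exact FPLocal.locally_preimage_of_exact _ e₁ n (hz p (by omega) (leOfHom g) _)

end Groth.Agent.TorsInj
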