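import Groth.Agent.FPLocal.Basis
import Groth.Agent.SiteBase.ExtZeroMod

/-!
# Solving linear equations in injective sheaves of modules
-/

set_option autoImplicit false
set_option linter.style.haveILetI false
set_option linter.unusedVariables false
set_option backward.isDefEq.respectTransparency false
set_option backward.isDefEq.respectTransparency.types false
set_option maxHeartbeats 1000000

universe u

open CategoryTheory Limits Opposite

noncomputable section

namespace Groth.Agent.TorsInj

open Groth.Agent.FPLocal

variable {C : Type u} [SmallCategory C] {J : GrothendieckTopology C} (O : Sheaf J CommRingCat.{u})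

/-- Baer's criterion: a finite system of equations whose compatibility holds everywhere has a solution
in an injective module. -/
theorem exists_smul_eq {I : ModSite.Mod O} [hI : Injective I] {V : C} {ι : Type u} [Fintype ι]
    (a : ι → (ModSite.ringSh O).obj.obj (op V)) (s : ι → I.val.obj (op V))
    (H : ∀ ⦃W : C⦄ (g : W ⟶ V) (d : ι → (ModSite.ringSh O).obj.obj (op W)),
      ∑ i, d i * ((ModSite.ringSh O).obj.map g.op).hom (a i) = 0 → ∑ i, d i • mres I g.op (s i) = 0) :
    ∃ t : I.val.obj (op V), ∀ i, a i • t = s i := by
  let F : SheafOfModules.{u} ((ModSite.ringSh O).over V) := SheafOfModules.free ι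
  let μ : F ⟶ SheafOfModules.unit ((ModSite.ringSh O).over V) := freeHomMk (SheafOfModules.unit (ModSite.ringSh O)) a
  let χ : F ⟶ I.over V := freeHomMk I s
  have hker : kernel.ι μ ≫ χ = 0 := by
    apply SheafOfModules.hom_ext
    ext U z
    obtain ⟨d, hd⟩ := exists_eq_sum_basis (R := (ModSite.ringSh O).over V) (I := ι) U.unop
      (((kernel.ι μ).val.app U).hom z)
    have h0 : (μ.val.app U).hom (((kernel.ι μ).val.app U).hom z) = 0 :=
      congrArg (fun f : kernel μ ⟶ _ => (f.val.app U).hom z) (kernel.condition μ)
    rw [hd, app_sum_basis] at h0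
    show (χ.val.app U).hom (((kernel.ι μ).val.app U).hom z) = 0
    rw [hd, app_sum_basis]
    refine Eq.trans (Finset.sum_congr rfl fun i _ => congrArg (d i • ·)
      (basisVal_freeHomMk (M := I) s i U.unop.hom)) (H U.unop.hom d ?_)
    exact Eq.trans (Finset.sum_congr rfl fun i _ => congrArg (d i • ·)
      (basisVal_freeHomMk (M := SheafOfModules.unit (ModSite.ringSh O)) a i U.unop.hom).symm) h0
  haveI : Injective (I.over V) := SiteBase.ExtZeroPre.injective_restr O V I
  have hex : (ShortComplex.mk (kernel.ι μ) μ (kernel.condition μ)).Exact :=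
    ShortComplex.exact_of_f_is_kernel _ (kernelIsKernel μ)
  let ψ := hex.descToInjective χ hker
  have hψ : μ ≫ ψ = χ := hex.comp_descToInjective χ hker
  refine ⟨val₁ I ψ, fun i => ?_⟩
  have e := congrArg (fun f => val₁ I (SheafOfModules.ιFree i ≫ f)) hψ
  simp only [χ, val₁_ιFree_freeHomMk] at e
  rw [← Category.assoc, val₁_comp_endo, scal_eq, val₁_ιFree_freeHomMk] at e
  exact e

end Groth.Agent.TorsInj
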