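import Groth.Agent.FComplLib.RpushVanish
import Mathlib.Algebra.Homology.Embedding.CochainComplex

/-!
# Sections of a bounded below complex of injectives with acyclic cohomology sheaves
-/

set_option autoImplicit false
set_option linter.style.haveILetI false
set_option linter.unusedVariables false
set_option backward.isDefEq.respectTransparency false
set_option backward.isDefEq.respectTransparency.types false
set_option maxHeartbeats 2000000
universe u

open CategoryTheory CategoryTheory.Limits AlgebraicGeometry TopologicalSpace Opposite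

noncomputable section

namespace Groth.Agent.TorsInj

open Groth.Agent.FCompl

variable {𝔛 : FSch.Sys.{u}} {h : 𝔛.IsFormal} {U : (𝔛.X 0).Opens}

/-- An extension of acyclic modules is acyclic. -/
theorem acy_mid {S : ShortComplex (FSch.ModF 𝔛 h)} (hS : S.ShortExact) (h₁ : Acy S.X₁ U) (h₃ : Acy S.X₃ U) :
    Acy S.X₂ U := fun k => by
  let T := S.map (SheafOfModules.toSheaf (ModSite.ringSh (𝔛.Osh h)))
  haveI : Subsingleton (CohBase.HU U T.X₁ (k + 1)) := h₁ k
  haveI : Subsingleton (CohBase.HU U T.X₃ (k + 1)) := h₃ k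
  refine subsingleton_of_forall_eq 0 fun x => ?_
  obtain ⟨x₁, rfl⟩ := Abelian.Ext.covariant_sequence_exact₂ (CohBase.freeAb U) (toSheaf_shortExact hS) x
    (Subsingleton.elim _ _)
  rw [Subsingleton.elim x₁ 0, Abelian.Ext.zero_comp]

theorem acy_of_isZero {M : FSch.ModF 𝔛 h} (hM : IsZero M) : Acy M U :=
  haveI := hM.injective
  acy_injective M U

variable (R : CochainComplex (FSch.ModF 𝔛 h) ℤ)

/-- Cycles and boundaries. -/
def bSeq (i j : ℤ) : ShortComplex (FSch.ModF 𝔛 h) :=
  ShortComplex.mk (R.iCycles i) (kernel.lift (R.homologyπ j) (R.toCycles i j) (R.toCycles_comp_homologyπ i j))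
    (by
      rw [← cancel_mono (kernel.ι _), Category.assoc, kernel.lift_ι, zero_comp, ← cancel_mono (R.iCycles j),
        Category.assoc, R.toCycles_i, R.iCycles_d, zero_comp])

/-- Boundaries, cycles and cohomology. -/
def hSeq (j : ℤ) : ShortComplex (FSch.ModF 𝔛 h) :=
  ShortComplex.mk (kernel.ι (R.homologyπ j)) (R.homologyπ j) (kernel.condition _)

theorem hSeq_shortExact (j : ℤ) : (hSeq R j).ShortExact := by
  haveI : Mono (hSeq R j).f := inferInstanceAs (Mono (kernel.ι _))
  haveI : Epi (hSeq R j).g := inferInstanceAs (Epi (R.homologyπ j))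
  exact { exact := ShortComplex.exact_of_f_is_kernel _ (kernelIsKernel _) }

theorem bSeq_shortExact {i j : ℤ} (hij : i + 1 = j) : (bSeq R i j).ShortExact := by
  haveI : Mono (bSeq R i j).f := inferInstanceAs (Mono (R.iCycles i))
  haveI : Epi (bSeq R i j).g := (ShortComplex.exact_of_g_is_cokernel
    (ShortComplex.mk (R.toCycles i j) (R.homologyπ j) (R.toCycles_comp_homologyπ i j))
    (R.homologyIsCokernel i j ((ComplexShape.up ℤ).prev_eq' hij))).epi_kernelLift
  refine ShortComplex.ShortExact.mk' ?_ inferInstance inferInstance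
  refine ShortComplex.exact_of_f_is_kernel _ (KernelFork.IsLimit.ofι' _ _ fun {A} k hk => ?_)
  refine ⟨R.liftCycles k j ((ComplexShape.up ℤ).next_eq' hij) ?_, R.liftCycles_i _ _ _ _⟩
  have e : k ≫ kernel.lift (R.homologyπ j) (R.toCycles i j) (R.toCycles_comp_homologyπ i j) = 0 := hk
  have e' := congrArg (fun f => f ≫ kernel.ι (R.homologyπ j) ≫ R.iCycles j) e
  simpa using e'

variable {R}

/-- Cycles are acyclic. -/
theorem acy_cycles_of (hinj : ∀ i, Injective (R.X i)) (b N : ℤ) [R.IsStrictlyGE b]
    (hH : ∀ j, j ≤ N → Acy (R.homology j) U) :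
    ∀ (n : ℕ) (j : ℤ), j = b - 1 + n → j ≤ N → Acy (R.cycles j) U := by
  intro n
  induction n with
  | zero =>
    intro j hj _
    refine acy_of_isZero ?_
    rw [IsZero.iff_id_eq_zero, ← cancel_mono (R.iCycles j)]
    exact (R.isZero_of_isStrictlyGE b j (by omega)).eq_of_tgt _ _
  | succ n ih =>
    intro j hj hjN
    haveI : Injective (bSeq R (j - 1) j).X₂ := hinj (j - 1)
    exact acy_mid (hSeq_shortExact R j) (acy_quot (bSeq_shortExact R (sub_add_cancel j 1))
      (ih (j - 1) (by push_cast at hj; omega) (by omega))) (hH j hjN)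

/-- Cohomology classes over `U` come from cycles over `U`, and null classes from boundaries. -/
theorem sections_homology (hinj : ∀ i, Injective (R.X i)) (b N : ℤ) [R.IsStrictlyGE b]
    (hH : ∀ j, j ≤ N → Acy (R.homology j) U) {i j : ℤ} (hij : i + 1 = j) (hbj : b ≤ j) (hjN : j ≤ N) :
    Function.Surjective ((R.homologyπ j).val.app (op U)).hom ∧
      ∀ w : (R.cycles j).val.obj (op U), ((R.homologyπ j).val.app (op U)).hom w = 0 →
        ∃ v : (R.X i).val.obj (op U), ((R.toCycles i j).val.app (op U)).hom v = w := by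
  haveI : Injective (bSeq R i j).X₂ := hinj i
  obtain ⟨n, hn⟩ : ∃ n : ℕ, i = b - 1 + n := ⟨(i - b + 1).toNat, by omega⟩
  have hZ : Acy (R.cycles i) U := acy_cycles_of hinj b N hH n i hn (by omega)
  refine ⟨acy_surjective (hSeq_shortExact R j) (acy_quot (bSeq_shortExact R hij) hZ), fun w hw => ?_⟩
  obtain ⟨y, hy⟩ := FPLocal.exists_kernel_preimage (R.homologyπ j) w hw
  obtain ⟨v, hv⟩ := acy_surjective (bSeq_shortExact R hij) hZ y
  refine ⟨v, ?_⟩
  rw [← hy, ← hv]
  exact congrArg (fun f : R.X i ⟶ R.cycles j => (f.val.app (op U)).hom v)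
    (kernel.lift_ι (R.homologyπ j) (R.toCycles i j) (R.toCycles_comp_homologyπ i j)).symm

end Groth.Agent.TorsInj
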