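import Groth.Agent.TorsInjLib.KLift
import Groth.Agent.TorsInjLib.Hyper
import Groth.Agent.FComplLib.QCKernel

/-!
# The base of the induction: complexes with quasi-coherent cohomology
-/

set_option autoImplicit false
set_option linter.style.haveILetI false
set_option linter.unusedVariables false
set_option backward.isDefEq.respectTransparency false
set_option backward.isDefEq.respectTransparency.types false
set_option maxHeartbeats 2000000

universe u

open CategoryTheory CategoryTheory.Limits AlgebraicGeometry TopologicalSpace Opposite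

noncomputable section

namespace Groth.Agent.TorsInj

open Groth.Agent.FCompl

variable {𝔛 : FSch.Sys.{u}} {h : 𝔛.IsFormal} {U V : (𝔛.X 0).Opens}
  {R : CochainComplex (FSch.ModF 𝔛 h) ℤ}

/-- A section killed by the differential is a section of the cycles. -/
theorem exists_cycle (Γ : CochainComplex (FSch.ModF 𝔛 h) ℤ) {j l : ℤ} (hjl : j + 1 = l)
    (z : (Γ.X j).val.obj (op V)) (hz : dd Γ j l z = 0) :
    ∃ w : (Γ.cycles j).val.obj (op V), ((Γ.iCycles j).val.app (op V)).hom w = z := by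
  obtain ⟨w₀, hw₀⟩ := FPLocal.exists_kernel_preimage (Γ.d j l) z hz
  let lf : kernel (Γ.d j l) ⟶ Γ.cycles j :=
    Γ.liftCycles (kernel.ι (Γ.d j l)) l ((ComplexShape.up ℤ).next_eq' hjl) (kernel.condition _)
  refine ⟨(lf.val.app (op V)).hom w₀, ?_⟩
  exact (congrArg (fun φ : kernel (Γ.d j l) ⟶ Γ.X j => (φ.val.app (op V)).hom w₀)
    (Γ.liftCycles_i (kernel.ι (Γ.d j l)) l ((ComplexShape.up ℤ).next_eq' hjl) (kernel.condition _))).trans hw₀

/-- Boundaries on sections. -/
theorem iCycles_toCycles (Γ : CochainComplex (FSch.ModF 𝔛 h) ℤ) (i j : ℤ) (v : (Γ.X i).val.obj (op V)) :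
    ((Γ.iCycles j).val.app (op V)).hom (((Γ.toCycles i j).val.app (op V)).hom v) = dd Γ i j v :=
  congrArg (fun φ : Γ.X i ⟶ Γ.X j => (φ.val.app (op V)).hom v) (Γ.toCycles_i i j)

theorem homologyπ_toCycles (Γ : CochainComplex (FSch.ModF 𝔛 h) ℤ) (i j : ℤ) (v : (Γ.X i).val.obj (op V)) :
    ((Γ.homologyπ j).val.app (op V)).hom (((Γ.toCycles i j).val.app (op V)).hom v) = 0 :=
  congrArg (fun φ : Γ.X i ⟶ Γ.homology j => (φ.val.app (op V)).hom v) (Γ.toCycles_comp_homologyπ i j)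

/-- Cycles with null class are locally boundaries. -/
theorem locally_boundary (Γ : CochainComplex (FSch.ModF 𝔛 h) ℤ) {i j : ℤ} (hij : i + 1 = j)
    (w : (Γ.cycles j).val.obj (op V)) (hw : ((Γ.homologyπ j).val.app (op V)).hom w = 0) :
    FPLocal.Locally (Opens.grothendieckTopology _) V fun Z l => ∃ v : (Γ.X i).val.obj (op Z),
      ((Γ.toCycles i j).val.app (op Z)).hom v = FPLocal.mres (Γ.cycles j) l.op w :=
  FPLocal.locally_preimage_of_exact (ShortComplex.mk (Γ.toCycles i j) (Γ.homologyπ j) (Γ.toCycles_comp_homologyπ i j))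
    (ShortComplex.exact_of_g_is_cokernel _ (Γ.homologyIsCokernel i j ((ComplexShape.up ℤ).prev_eq' hij))) w hw

/-- The base of the induction. -/
theorem hasGens_hasRelns_empty (hL : 𝔛.IsLocNoethFormal) (hinj : ∀ i, Injective (R.X i)) (hU : IsAffineOpen U)
    (b N : ℤ) [R.IsStrictlyGE b] (hH : ∀ j, j ≤ N → Acy (R.homology j) U) (j : ℤ) (hbj : b ≤ j) (hjN : j ≤ N)
    (hUV : U ≤ V) (D : RelData (R.homology j) V) :
    HasGens R (∅ : Finset (OR 𝔛 h U)) j ∧ HasRelns R (∅ : Finset (OR 𝔛 h U)) j := by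
  classical
  refine ⟨fun i l hij hjl Z hZ hZa z hz _ x hx => ?_, fun i l hij hjl ι _ w hw Z hZ hZa a v _ hav x hx => ?_⟩
  · obtain ⟨w, hw⟩ := exists_cycle R hjl z hz
    obtain ⟨hsurj, -⟩ := sections_homology hinj b N hH hij hbj hjN
    choose tw htw using fun k : D.I => hsurj (rs (R.homology j) hUV (D.t k))
    obtain ⟨Z₁, l₁, hxZ₁, S, a, ha⟩ := FPLocal.Locally.near
      (D.gen (homOfLE (hZ.trans hUV)) (((R.homologyπ j).val.app (op Z)).hom w)) hx
    have hZ₁ : Z₁ ≤ Z := leOfHom l₁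
    let c : (R.cycles j).val.obj (op Z₁) :=
      rs (R.cycles j) hZ₁ w - ∑ k : ↥S, a k.1 • rs (R.cycles j) (hZ₁.trans hZ) (tw k.1)
    have hc : ((R.homologyπ j).val.app (op Z₁)).hom c = 0 := by
      rw [map_sub, map_sum, sub_eq_zero, show ((R.homologyπ j).val.app (op Z₁)).hom (rs (R.cycles j) hZ₁ w) = _ from
        FPLocal.app_mres (R.homologyπ j) (homOfLE hZ₁) w]
      refine Eq.trans ha.symm ?_
      rw [← Finset.sum_coe_sort]
      refine Finset.sum_congr rfl fun k _ => ?_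
      rw [map_smul, FPLocal.app_mres, htw]
      exact congrArg (a k.1 • ·) (rs_rs (hZ₁.trans hZ) hUV (D.t k.1)).symm
    obtain ⟨Z₂, l₂, hxZ₂, v, hv⟩ := FPLocal.Locally.near (locally_boundary R hij c hc) hxZ₁
    obtain ⟨Z', hZ'a, hxZ', hZ'Z₂⟩ := exists_affine_le (𝔛 := 𝔛) hxZ₂
    have hZ'₁ : Z' ≤ Z₁ := hZ'Z₂.trans (leOfHom l₂)
    refine ⟨Z', hZ'₁.trans hZ₁, hZ'a, hxZ', ↥S, inferInstance,
      fun k => ((R.iCycles j).val.app (op U)).hom (tw k.1), fun k => rsO 𝔛 h hZ'₁ (a k.1),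
      rs (R.X i) hZ'Z₂ v, fun k => ⟨?_, Kill.empty⟩, Kill.empty, ?_⟩
    · exact congrArg (fun φ : R.cycles j ⟶ R.X l => (φ.val.app (op U)).hom (tw k.1)) (R.iCycles_d j l)
    · have h1 := congrArg ((R.iCycles j).val.app (op Z₂)).hom hv
      rw [iCycles_toCycles, FPLocal.app_mres] at h1
      rw [dd_rs, h1]
      show _ = _ + rs (R.X j) hZ'Z₂ (rs (R.X j) (leOfHom l₂) (((R.iCycles j).val.app (op Z₁)).hom c))
      rw [rs_rs]
      simp only [c, map_sub, map_sum, map_smul, FPLocal.app_mres, hw, mres_smul', rs_rs]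
      rw [← add_sub_assoc, eq_sub_iff_add_eq, add_comm, add_left_inj]
      exact Finset.sum_congr rfl fun k _ => (mres_smul' _ _ _).trans (congrArg _ (rs_rs _ _ _))
  · obtain ⟨-, hkill⟩ := sections_homology hinj b N hH hij hbj hjN
    choose wc hwc using fun q => exists_cycle R hjl (w q) (hw q).1
    obtain ⟨n, c, hc0, hc⟩ := relComplete_qc hL D hU hUV fun q => ((R.homologyπ j).val.app (op U)).hom (wc q)
    have h0 : ∑ q, a q • FPLocal.mres (R.homology j) (homOfLE hZ).op (((R.homologyπ j).val.app (op U)).hom (wc q)) = 0 := by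
      have e : ∑ q, a q • rs (R.cycles j) hZ (wc q) = ((R.toCycles i j).val.app (op Z)).hom v := by
        refine FPLocal.app_injective_of_mono (R.iCycles j) Z ?_
        rw [iCycles_toCycles, map_sum, ← hav]
        exact Finset.sum_congr rfl fun q _ => by rw [map_smul, FPLocal.app_mres, hwc]
      have e' := congrArg ((R.homologyπ j).val.app (op Z)).hom e
      rw [homologyπ_toCycles, map_sum] at e'
      refine Eq.trans ?_ e'
      exact Finset.sum_congr rfl fun q _ => by rw [map_smul, FPLocal.app_mres]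
    obtain ⟨S, hS, hS'⟩ := hc (homOfLE hZ) a h0
    obtain ⟨Z₁, l₁, hl₁, hxZ₁⟩ := hS x hx
    obtain ⟨b, hb⟩ := hS' l₁ hl₁
    obtain ⟨Z', hZ'a, hxZ', hZ'Z₁⟩ := exists_affine_le (𝔛 := 𝔛) hxZ₁
    have hk : ∀ k, ∃ u : (R.X i).val.obj (op U), ∑ q, c k q • w q = dd R i j u := fun k => by
      obtain ⟨u, hu⟩ := hkill (∑ q, c k q • wc q) (by
        rw [map_sum]
        exact Eq.trans (Finset.sum_congr rfl fun q _ => map_smul _ _ _) (hc0 k))
      refine ⟨u, ?_⟩
      rw [← iCycles_toCycles, hu, map_sum]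
      exact Finset.sum_congr rfl fun q _ => by rw [map_smul, hwc]
    choose u hu using hk
    refine ⟨Z', hZ'Z₁.trans (leOfHom l₁), hZ'a, hxZ', ULift.{u} (Fin n), inferInstance, c, u,
      fun k => rsO 𝔛 h hZ'Z₁ (b k), fun k => ⟨Kill.empty, hu k⟩, fun q => ?_⟩
    have h1 : ∑ k, (show OR 𝔛 h Z₁ from b k) * rsO 𝔛 h (leOfHom (l₁ ≫ homOfLE hZ)) (c k q) = rsO 𝔛 h (leOfHom l₁) (a q) := hb q
    have h2 := congrArg (rsO 𝔛 h hZ'Z₁) h1
    rw [map_sum, rsO_comp] at h2
    rw [← h2]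
    exact Finset.sum_congr rfl fun k _ => by rw [map_mul, rsO_comp]

end Groth.Agent.TorsInj
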