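import Groth.Agent.TorsInjLib.Divide

/-!
# Complexes of injectives with torsion homology: sections with torsion differential
-/

set_option autoImplicit false
set_option linter.style.haveILetI false
set_option linter.unusedVariables false
set_option backward.isDefEq.respectTransparency false
set_option backward.isDefEq.respectTransparency.types false
set_option maxHeartbeats 2000000

universe u

open CategoryTheory CategoryTheory.Limits AlgebraicGeometry TopologicalSpace Opposite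

noncomputable section

namespace Groth.Agent.TorsInj

open Groth.Agent.FCompl

variable {𝔛 : FSch.Sys.{u}} {h : 𝔛.IsFormal} {U V W : (𝔛.X 0).Opens}
  (K : CochainComplex (FSch.ModF 𝔛 h) ℤ)

/-- The differential on sections. -/
abbrev dd (i j : ℤ) (s : (K.X i).val.obj (op V)) : (K.X j).val.obj (op V) :=
  ((K.d i j).val.app (op V)).hom s

theorem dd_rs (i j : ℤ) (hW : W ≤ V) (s : (K.X i).val.obj (op V)) :
    dd K i j (rs (K.X i) hW s) = rs (K.X j) hW (dd K i j s) :=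
  FPLocal.app_mres (K.d i j) (homOfLE hW) s

theorem dd_smul (i j : ℤ) (a : OR 𝔛 h V) (s : (K.X i).val.obj (op V)) :
    dd K i j (a • s) = a • dd K i j s :=
  map_smul _ _ _

theorem dd_sub (i j : ℤ) (s t : (K.X i).val.obj (op V)) : dd K i j (s - t) = dd K i j s - dd K i j t :=
  map_sub _ _ _

theorem dd_dd (i j l : ℤ) (s : (K.X i).val.obj (op V)) : dd K j l (dd K i j s) = 0 :=
  congrArg (fun φ : K.X i ⟶ K.X l => (φ.val.app (op V)).hom s) (K.d_comp_d i j l)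

/-- Cycles killed by powers of a family are, up to a power of any section of the ideal, boundaries of sections
killed by powers of the family. -/
def Bdry (T : Finset (OR 𝔛 h U)) : Prop :=
  ∀ f ∈ II 𝔛 h U, ∀ (i j l : ℤ), i + 1 = j → j + 1 = l → ∀ (Z : (𝔛.X 0).Opens) (hZ : Z ≤ U), IsAffineOpen Z →
    ∀ z : (K.X j).val.obj (op Z), dd K j l z = 0 → Kill T hZ z → ∀ x ∈ Z,
    ∃ (Z' : (𝔛.X 0).Opens) (hZ' : Z' ≤ Z), IsAffineOpen Z' ∧ x ∈ Z' ∧
      ∃ (m : ℕ) (u : (K.X i).val.obj (op Z')), Kill T (hZ'.trans hZ) u ∧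
        dd K i j u = rsO 𝔛 h (hZ'.trans hZ) f ^ m • rs (K.X j) hZ' z

variable {K}

/-- The step: correcting a section by a boundary. -/
theorem exists_sub_step [DecidableEq (OR 𝔛 h U)] (hL : 𝔛.IsLocNoethFormal) (hinj : ∀ i, Injective (K.X i))
    {T : Finset (OR 𝔛 h U)} (hT : Bdry K T) {f : OR 𝔛 h U} (hf : f ∈ II 𝔛 h U) {i j l : ℤ} (hij : i + 1 = j)
    (hjl : j + 1 = l) {Z : (𝔛.X 0).Opens} (hZ : Z ≤ U) (hZa : IsAffineOpen Z) {s : (K.X j).val.obj (op Z)}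
    (hs : Kill T hZ s) (hds : Kill (insert f T) hZ (dd K j l s)) {x : 𝔛.X 0} (hx : x ∈ Z) :
    ∃ (Z' : (𝔛.X 0).Opens) (hZ' : Z' ≤ Z), IsAffineOpen Z' ∧ x ∈ Z' ∧
      ∃ t : (K.X i).val.obj (op Z'), Kill T (hZ'.trans hZ) t ∧
        Kill (insert f T) (hZ'.trans hZ) (rs (K.X j) hZ' s - dd K i j t) := by
  obtain ⟨e, he⟩ := hds
  obtain ⟨Z', hZ', hZ'a, hxZ', m, u, hu, hdu⟩ := hT f hf i j l hij hjl Z hZ hZa (rsO 𝔛 h hZ f ^ e • s)
    (by rw [dd_smul]; exact he f (Finset.mem_insert_self f T)) (hs.smul _) x hx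
  haveI := hinj i
  obtain ⟨n, t, ht, htu⟩ := exists_divide hL (hZ'.trans hZ) hZ'a (rsO 𝔛 h (hZ'.trans hZ) f) (m + e) u hu
  refine ⟨Z', hZ', hZ'a, hxZ', t, ht, ((hs.res hZ').sub (ht.hom (K.d i j))).insert (e := m + e + n) ?_⟩
  rw [smul_sub, ← dd_smul, htu, dd_smul, hdu, mres_smul' hZ', map_pow, rsO_comp, ← mul_smul, ← mul_smul,
    ← pow_add, ← pow_add, sub_eq_zero]
  congr 2
  omega

/-- The boundary property for all families. -/
theorem bdry_all (hL : 𝔛.IsLocNoethFormal) (hinj : ∀ i, Injective (K.X i)) (hH : ∀ i, IsT (K.homology i))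
    (T : Finset (OR 𝔛 h U)) (hT : ∀ a ∈ T, a ∈ II 𝔛 h U) : Bdry K T := by
  classical
  induction T using Finset.induction with
  | empty =>
    intro f hf i j l hij hjl Z hZ hZa z hz _ x hx
    obtain ⟨w₀, hw₀⟩ := FPLocal.exists_kernel_preimage (K.d j l) z hz
    let lf : kernel (K.d j l) ⟶ K.cycles j :=
      K.liftCycles (kernel.ι (K.d j l)) l ((ComplexShape.up ℤ).next_eq' hjl) (kernel.condition _)
    let w : (K.cycles j).val.obj (op Z) := (lf.val.app (op Z)).hom w₀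
    have hwz : ((K.iCycles j).val.app (op Z)).hom w = z :=
      (congrArg (fun φ : kernel (K.d j l) ⟶ K.X j => (φ.val.app (op Z)).hom w₀)
        (K.liftCycles_i (kernel.ι (K.d j l)) l ((ComplexShape.up ℤ).next_eq' hjl) (kernel.condition _))).trans hw₀
    obtain ⟨Z₀, l₀, hxZ₀, n, hn⟩ :=
      FPLocal.Locally.near ((isTorsSect_iff _).1 (hH j Z (((K.homologyπ j).val.app (op Z)).hom w))) hx
    obtain ⟨Z₁, hZ₁a, hxZ₁, hZ₁Z₀⟩ := exists_affine_le (𝔛 := 𝔛) hxZ₀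
    have hZ₁ : Z₁ ≤ Z := hZ₁Z₀.trans (leOfHom l₀)
    let a : OR 𝔛 h Z₁ := rsO 𝔛 h (hZ₁.trans hZ) f ^ (n + 1)
    have ha : pr 𝔛 h Z₁ n a = 0 := by
      rw [← RingHom.mem_ker, ker_pr hL hZ₁a n]
      refine Ideal.pow_mem_pow ?_ _
      rw [II, RingHom.mem_ker, pr_rsO, show pr 𝔛 h U 0 f = 0 from hf, map_zero]
    have hkill : ((K.homologyπ j).val.app (op Z₁)).hom (a • rs (K.cycles j) hZ₁ w) = 0 := by
      rw [map_smul, FPLocal.app_mres]
      refine Eq.trans ?_ (hn (homOfLE hZ₁Z₀) a ha)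
      exact congrArg (a • ·) (FPLocal.mres_comp (M := K.homology j) l₀.op (homOfLE hZ₁Z₀).op _)
    obtain ⟨Z₂, l₂, hxZ₂, u, hu⟩ := FPLocal.Locally.near (FPLocal.locally_preimage_of_exact
      (ShortComplex.mk (K.toCycles i j) (K.homologyπ j) (K.toCycles_comp_homologyπ i j))
      (ShortComplex.exact_of_g_is_cokernel _ (K.homologyIsCokernel i j ((ComplexShape.up ℤ).prev_eq' hij)))
      (a • rs (K.cycles j) hZ₁ w) hkill) hxZ₁
    obtain ⟨Z', hZ'a, hxZ', hZ'Z₂⟩ := exists_affine_le (𝔛 := 𝔛) hxZ₂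
    have hZ'₁ : Z' ≤ Z₁ := hZ'Z₂.trans (leOfHom l₂)
    refine ⟨Z', hZ'₁.trans hZ₁, hZ'a, hxZ', n + 1, rs (K.X i) hZ'Z₂ u, Kill.empty, ?_⟩
    have e1 : dd K i j u = rs (K.X j) (leOfHom l₂) (a • rs (K.X j) hZ₁ z) := by
      have e2 : ((K.iCycles j).val.app (op Z₂)).hom (((K.toCycles i j).val.app (op Z₂)).hom u) = dd K i j u :=
        congrArg (fun φ : K.X i ⟶ K.X j => (φ.val.app (op Z₂)).hom u) (K.toCycles_i i j)
      rw [← e2, show ((K.toCycles i j).val.app (op Z₂)).hom u = _ from hu, FPLocal.app_mres, map_smul,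
        FPLocal.app_mres, hwz]
      rfl
    rw [dd_rs, e1, rs_rs, mres_smul' _ a, rs_rs, map_pow, rsO_comp]
  | insert f T hfT ih =>
    intro g hg i j l hij hjl Z hZ hZa z hz hzk x hx
    have hP : Bdry K T := ih fun a ha => hT a (Finset.mem_insert_of_mem ha)
    obtain ⟨Z₁, hZ₁, hZ₁a, hxZ₁, m, u, hu, hdu⟩ :=
      hP g hg i j l hij hjl Z hZ hZa z hz (hzk.mono (Finset.subset_insert f T)) x hx
    obtain ⟨Z', hZ', hZ'a, hxZ', t, -, ht⟩ := exists_sub_step hL hinj hP (hT f (Finset.mem_insert_self f T))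
      (i := i - 1) (sub_add_cancel i 1) hij (hZ₁.trans hZ) hZ₁a hu
      (by rw [hdu]; exact (hzk.res hZ₁).smul _) hxZ₁
    refine ⟨Z', hZ'.trans hZ₁, hZ'a, hxZ', m, rs (K.X i) hZ' u - dd K (i - 1) i t, ht, ?_⟩
    rw [dd_sub, dd_dd, sub_zero, dd_rs, hdu, mres_smul' hZ', rs_rs, map_pow, rsO_comp]

/-- Sections with differential killed by powers of a family can be corrected. -/
theorem exists_sub_kill (hL : 𝔛.IsLocNoethFormal) (hinj : ∀ i, Injective (K.X i)) (hH : ∀ i, IsT (K.homology i))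
    (T : Finset (OR 𝔛 h U)) (hT : ∀ a ∈ T, a ∈ II 𝔛 h U) {i j l : ℤ} (hij : i + 1 = j) (hjl : j + 1 = l)
    {Z : (𝔛.X 0).Opens} (hZ : Z ≤ U) (hZa : IsAffineOpen Z) (s : (K.X j).val.obj (op Z))
    (hds : Kill T hZ (dd K j l s)) {x : 𝔛.X 0} (hx : x ∈ Z) :
    ∃ (Z' : (𝔛.X 0).Opens) (hZ' : Z' ≤ Z), IsAffineOpen Z' ∧ x ∈ Z' ∧
      ∃ t : (K.X i).val.obj (op Z'), Kill T (hZ'.trans hZ) (rs (K.X j) hZ' s - dd K i j t) := by
  classical
  induction T using Finset.induction with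
  | empty => exact ⟨Z, le_rfl, hZa, hx, 0, Kill.empty⟩
  | insert f T hfT ih =>
    have hTm : ∀ a ∈ T, a ∈ II 𝔛 h U := fun a ha => hT a (Finset.mem_insert_of_mem ha)
    obtain ⟨Z₁, hZ₁, hZ₁a, hxZ₁, t₁, ht₁⟩ := ih hTm (hds.mono (Finset.subset_insert f T))
    obtain ⟨Z', hZ', hZ'a, hxZ', t₂, -, ht₂⟩ := exists_sub_step hL hinj (bdry_all hL hinj hH T hTm)
      (hT f (Finset.mem_insert_self f T)) hij hjl (hZ₁.trans hZ) hZ₁a ht₁
      (by rw [dd_sub, dd_dd, sub_zero, dd_rs]; exact hds.res hZ₁) hxZ₁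
    refine ⟨Z', hZ'.trans hZ₁, hZ'a, hxZ', rs (K.X i) hZ' t₁ + t₂, ?_⟩
    have e : rs (K.X j) (hZ'.trans hZ₁) s - dd K i j (rs (K.X i) hZ' t₁ + t₂) =
        rs (K.X j) hZ' (rs (K.X j) hZ₁ s - dd K i j t₁) - dd K i j t₂ := by
      rw [map_sub, rs_rs, ← dd_rs, sub_sub]
      exact congrArg _ (map_add _ _ _)
    rw [e]
    exact ht₂

/-- In a complex of injectives with torsion homology, a section with torsion differential differs locally from a
torsion section by a boundary. -/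
theorem locally_exists_sub_torsion (hL : 𝔛.IsLocNoethFormal) (hinj : ∀ i, Injective (K.X i))
    (hH : ∀ i, IsT (K.homology i)) {i j l : ℤ} (hij : i + 1 = j) (hjl : j + 1 = l) (s : (K.X j).val.obj (op V))
    (hds : FTors.IsTorsSect (FTors.openIdealFam 𝔛 h) (K.X l) (dd K j l s)) :
    FPLocal.Locally (Opens.grothendieckTopology _) V fun Z g => ∃ t : (K.X i).val.obj (op Z),
      FTors.IsTorsSect (FTors.openIdealFam 𝔛 h) (K.X j) (FPLocal.mres (K.X j) g.op s - dd K i j t) := by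
  refine FPLocal.locally_of_near (fun Z Y q g hg => ?_) fun x hx => ?_
  · obtain ⟨t, ht⟩ := hg
    refine ⟨FPLocal.mres (K.X i) q.op t, ?_⟩
    rw [FPLocal.mres_comp', show dd K i j (FPLocal.mres (K.X i) q.op t) = _ from FPLocal.app_mres (K.d i j) q t,
      ← map_sub]
    exact ht.res q
  obtain ⟨Z₀, l₀, hxZ₀, n, hn⟩ := FPLocal.Locally.near ((isTorsSect_iff _).1 hds) hx
  obtain ⟨Z, hZa, hxZ, hZZ₀⟩ := exists_affine_le (𝔛 := 𝔛) hxZ₀
  have hZV : Z ≤ V := hZZ₀.trans (leOfHom l₀)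
  haveI := noetherian (h := h) hL hZa
  obtain ⟨T, hT⟩ : (II 𝔛 h Z).FG := IsNoetherian.noetherian _
  have hTm : ∀ a ∈ T, a ∈ II 𝔛 h Z := fun a ha => by rw [← hT]; exact Ideal.subset_span ha
  have hk : KB (K.X l) n (dd K j l (rs (K.X j) hZV s)) := by
    rw [dd_rs]
    exact (congrArg (KB (K.X l) n) (FPLocal.mres_comp (M := K.X l) l₀.op (homOfLE hZZ₀).op _)).mpr
      (hn.res (homOfLE hZZ₀))
  obtain ⟨Z', hZ', hZ'a, hxZ', t, ht⟩ :=
    exists_sub_kill hL hinj hH T hTm hij hjl le_rfl hZa (rs (K.X j) hZV s) (kill_of_kb hL hZa hTm hk) hxZ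
  obtain ⟨n', hn'⟩ := kb_of_kill hL hZa hZ'a hT ht
  refine ⟨Z', homOfLE (hZ'.trans hZV), hxZ', t, FTors.IsTorsSect.of_killedBy (n := n') ?_⟩
  rw [rs_rs] at hn'
  exact hn'

end Groth.Agent.TorsInj
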