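import Groth.Agent.TorsInjLib.Baer
import Groth.Agent.FComplLib.Torsion

/-!
# Divisibility of the sections of injective modules on a locally Noetherian formal scheme
-/

set_option autoImplicit false
set_option linter.style.haveILetI false
set_option linter.unusedVariables false
set_option backward.isDefEq.respectTransparency false
set_option backward.isDefEq.respectTransparency.types false
set_option maxHeartbeats 2000000

universe u

open CategoryTheory CategoryTheory.Limits AlgebraicGeometry TopologicalSpace Opposite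

noncomputable section

namespace Groth.Agent.TorsInj

open Groth.Agent.FCompl

variable {𝔛 : FSch.Sys.{u}} {h : 𝔛.IsFormal} {U V W : (𝔛.X 0).Opens} {M N : FSch.ModF 𝔛 h}

/-- Restriction of sections along an inclusion. -/
abbrev rs (M : FSch.ModF 𝔛 h) {W V : (𝔛.X 0).Opens} (hWV : W ≤ V) : M.val.obj (op V) →+ M.val.obj (op W) :=
  FPLocal.mres M (homOfLE hWV).op

theorem rs_rs {Z : (𝔛.X 0).Opens} (hZW : Z ≤ W) (hWV : W ≤ V) (s : M.val.obj (op V)) :
    rs M hZW (rs M hWV s) = rs M (hZW.trans hWV) s :=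
  (FPLocal.mres_comp (M := M) (homOfLE hWV).op (homOfLE hZW).op s).symm

theorem rsO_comp {Z : (𝔛.X 0).Opens} (hZW : Z ≤ W) (hWV : W ≤ V) (a : OR 𝔛 h V) :
    rsO 𝔛 h hZW (rsO 𝔛 h hWV a) = rsO 𝔛 h (hZW.trans hWV) a :=
  (FPLocal.mres_comp (M := FSch.unitF 𝔛 h) (homOfLE hWV).op (homOfLE hZW).op a).symm

/-- A family of sections of the structure sheaf acts nilpotently on a section. -/
def Kill (T : Finset (OR 𝔛 h U)) (hV : V ≤ U) (s : M.val.obj (op V)) : Prop :=
  ∃ e : ℕ, ∀ a ∈ T, rsO 𝔛 h hV a ^ e • s = 0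

variable {T T' : Finset (OR 𝔛 h U)} {hV : V ≤ U} {s t : M.val.obj (op V)}

theorem pow_smul_eq_zero {a : OR 𝔛 h V} {e e' : ℕ} (he : e ≤ e') (hs : a ^ e • s = 0) : a ^ e' • s = 0 := by
  rw [← Nat.sub_add_cancel he, pow_add, mul_smul, hs, smul_zero]

theorem Kill.empty : Kill (∅ : Finset (OR 𝔛 h U)) hV s :=
  ⟨0, fun a ha => absurd ha (Finset.notMem_empty a)⟩

theorem Kill.res (hs : Kill T hV s) (hW : W ≤ V) : Kill T (hW.trans hV) (rs M hW s) := by
  obtain ⟨e, he⟩ := hs
  refine ⟨e, fun a ha => ?_⟩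
  have := congrArg (rs M hW) (he a ha)
  rw [map_zero] at this
  refine Eq.trans ?_ this
  refine ((mres_smul' hW _ s).trans ?_).symm
  rw [map_pow, rsO_comp]

theorem Kill.add (hs : Kill T hV s) (ht : Kill T hV t) : Kill T hV (s + t) := by
  obtain ⟨e, he⟩ := hs
  obtain ⟨e', he'⟩ := ht
  refine ⟨max e e', fun a ha => ?_⟩
  rw [smul_add, pow_smul_eq_zero (le_max_left _ _) (he a ha), pow_smul_eq_zero (le_max_right _ _) (he' a ha), add_zero]

theorem Kill.neg (hs : Kill T hV s) : Kill T hV (-s) := by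
  obtain ⟨e, he⟩ := hs
  exact ⟨e, fun a ha => by rw [smul_neg, he a ha, neg_zero]⟩

theorem Kill.sub (hs : Kill T hV s) (ht : Kill T hV t) : Kill T hV (s - t) := by
  rw [sub_eq_add_neg]
  exact hs.add ht.neg

theorem Kill.hom (φ : M ⟶ N) (hs : Kill T hV s) : Kill T hV ((φ.val.app (op V)).hom s) := by
  obtain ⟨e, he⟩ := hs
  exact ⟨e, fun a ha => by rw [← map_smul, he a ha, map_zero]⟩

theorem Kill.smul (c : OR 𝔛 h V) (hs : Kill T hV s) : Kill T hV (c • s) := by
  obtain ⟨e, he⟩ := hs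
  exact ⟨e, fun a ha => by rw [smul_comm, he a ha, smul_zero]⟩

theorem Kill.mono (hT : T ⊆ T') (hs : Kill T' hV s) : Kill T hV s := by
  obtain ⟨e, he⟩ := hs
  exact ⟨e, fun a ha => he a (hT ha)⟩

theorem Kill.insert [DecidableEq (OR 𝔛 h U)] {f : OR 𝔛 h U} (hs : Kill T hV s) {e : ℕ}
    (hf : rsO 𝔛 h hV f ^ e • s = 0) : Kill (Insert.insert f T) hV s := by
  obtain ⟨e', he'⟩ := hs
  refine ⟨max e e', fun a ha => ?_⟩
  rcases Finset.mem_insert.1 ha with rfl | ha
  · exact pow_smul_eq_zero (le_max_left _ _) hf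
  · exact pow_smul_eq_zero (le_max_right _ _) (he' a ha)

/-- Sections killed by an open ideal are killed by powers of its sections. -/
theorem kill_of_kb (hL : 𝔛.IsLocNoethFormal) (hVa : IsAffineOpen V) (hT : ∀ a ∈ T, a ∈ II 𝔛 h U) {n : ℕ}
    (hs : KB M n s) : Kill T hV s := by
  refine ⟨n + 1, fun a ha => ?_⟩
  have h1 : pr 𝔛 h V n (rsO 𝔛 h hV a ^ (n + 1)) = 0 := by
    rw [← RingHom.mem_ker, ker_pr hL hVa n]
    refine Ideal.pow_mem_pow ?_ _
    rw [II, RingHom.mem_ker, pr_rsO, show pr 𝔛 h U 0 a = 0 from hT a ha, map_zero]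
  have h2 := hs (𝟙 V) (rsO 𝔛 h hV a ^ (n + 1)) h1
  rw [FTors.res_id] at h2
  exact h2

/-- Sections killed by powers of generators of the ideal are killed by an open ideal. -/
theorem kb_of_kill (hL : 𝔛.IsLocNoethFormal) (hUa : IsAffineOpen U) (hVa : IsAffineOpen V)
    (hT : Ideal.span (T : Set (OR 𝔛 h U)) = II 𝔛 h U) (hs : Kill T hV s) : ∃ n, KB M n s := by
  obtain ⟨e, he⟩ := hs
  haveI := noetherian (h := h) hL hVa
  let J : Ideal (OR 𝔛 h V) := Ideal.span ((fun a => rsO 𝔛 h hV a ^ e) '' (T : Set (OR 𝔛 h U)))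
  have h1 : II 𝔛 h V ≤ J.radical := by
    rw [← II_map hL hUa hVa hV, ← hT, Ideal.map_span, Ideal.span_le]
    rintro _ ⟨a, ha, rfl⟩
    exact ⟨e, Ideal.subset_span ⟨a, ha, rfl⟩⟩
  obtain ⟨k, hk⟩ := Ideal.exists_pow_le_of_le_radical_of_fg h1 (IsNoetherian.noetherian _)
  refine ⟨k, kb_of_gens hL hVa (S := (II 𝔛 h V ^ (k + 1) : Ideal (OR 𝔛 h V))) (Ideal.span_eq _) fun a ha => ?_⟩
  have ha' : a ∈ J := hk (Ideal.pow_le_pow_right (Nat.le_succ k) ha)
  clear ha
  induction ha' using Submodule.span_induction with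
  | mem y hy =>
    obtain ⟨b, hb, rfl⟩ := hy
    exact he b hb
  | zero => exact zero_smul _ _
  | add b c _ _ hb hc => rw [add_smul, hb, hc, add_zero]
  | smul r b _ hb => rw [smul_eq_mul, mul_smul, hb, smul_zero]

/-- Divisibility: in an injective module, sections killed by powers of a family are, up to a power of `f`,
divisible by powers of `f` inside the sections killed by powers of the family. -/
theorem exists_divide (hL : 𝔛.IsLocNoethFormal) {I : FSch.ModF 𝔛 h} [Injective I] {Z : (𝔛.X 0).Opens}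
    (hZU : Z ≤ U) (hZa : IsAffineOpen Z) (f : OR 𝔛 h Z) (m : ℕ) (u : I.val.obj (op Z)) (hu : Kill T hZU u) :
    ∃ (n : ℕ) (t : I.val.obj (op Z)), Kill T hZU t ∧ f ^ (m + n) • t = f ^ n • u := by
  classical
  obtain ⟨e, he⟩ := hu
  haveI := noetherian (h := h) hL hZa
  let J : ℕ →o Submodule (OR 𝔛 h Z) (OR 𝔛 h Z) :=
    ⟨fun n => LinearMap.ker (LinearMap.toSpanSingleton (OR 𝔛 h Z) (I.val.obj (op Z)) (f ^ n • u)),
      fun n n' hn c hc => by
        rw [LinearMap.mem_ker, LinearMap.toSpanSingleton_apply] at hc ⊢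
        rw [← Nat.sub_add_cancel hn, pow_add, mul_smul, smul_comm, hc, smul_zero]⟩
  obtain ⟨n, hn⟩ := monotone_stabilizes_iff_noetherian.2 (inferInstance : IsNoetherian (OR 𝔛 h Z) (OR 𝔛 h Z)) J
  have hstab : ∀ c : OR 𝔛 h Z, c • (f ^ (m + n) • u) = 0 → c • (f ^ n • u) = 0 := fun c hc => by
    have h1 : c ∈ J (m + n) := by
      show c ∈ LinearMap.ker _
      rw [LinearMap.mem_ker, LinearMap.toSpanSingleton_apply]
      exact hc
    rw [← hn (m + n) (Nat.le_add_left n m)] at h1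
    exact h1
  let a : Option ↥T → OR 𝔛 h Z := fun i => i.elim (f ^ (m + n)) fun b => rsO 𝔛 h hZU b.1 ^ e
  let s : Option ↥T → I.val.obj (op Z) := fun i => i.elim (f ^ n • u) fun _ => 0
  obtain ⟨t, ht⟩ := exists_smul_eq (𝔛.Osh h) (I := I) a s fun W g d hd => by
    refine eq_zero_of_affine I _ fun Z' hZ'W hZ'a => ?_
    have hZ'Z : Z' ≤ Z := hZ'W.trans (leOfHom g)
    letI : Algebra (OR 𝔛 h Z) (OR 𝔛 h Z') := (rsO 𝔛 h hZ'Z).toAlgebra
    haveI : Module.Flat (OR 𝔛 h Z) (OR 𝔛 h Z') := rsO_flat hL hZa hZ'a hZ'Z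
    let d' : Option ↥T → OR 𝔛 h Z' := fun i => rsO 𝔛 h hZ'W (d i)
    have hd' : ∑ i, (show OR 𝔛 h W from d i) * rsO 𝔛 h (leOfHom g) (a i) = 0 := hd
    have hrel : ∑ i, a i • d' i = 0 := by
      have h1 := congrArg (rsO 𝔛 h hZ'W) hd'
      rw [map_zero, map_sum] at h1
      refine Eq.trans (Finset.sum_congr rfl fun i _ => ?_) h1
      rw [map_mul, rsO_comp, mul_comm]
      rfl
    obtain ⟨k, c, y, hy, hc⟩ := Module.Flat.isTrivialRelation_of_sum_smul_eq_zero (R := OR 𝔛 h Z) (M := OR 𝔛 h Z')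
      (f := a) (x := d') hrel
    have h0 : ∀ j, c none j • (f ^ n • u) = 0 := fun j => by
      refine hstab _ ?_
      have h1 := hc j
      rw [Fintype.sum_option] at h1
      have h2 : (a none * c none j) • u = 0 := by
        rw [eq_neg_of_add_eq_zero_left h1, neg_smul, Finset.sum_smul, neg_eq_zero]
        refine Finset.sum_eq_zero fun b _ => ?_
        rw [mul_comm, mul_smul]
        exact (congrArg (c (some b) j • ·) (he b.1 b.2)).trans (smul_zero _)
      rw [mul_comm, mul_smul] at h2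
      exact h2
    refine (map_sum _ _ _).trans (Finset.sum_eq_zero fun i _ => ?_)
    refine (mres_smul' hZ'W (d i) _).trans ?_
    refine (congrArg (d' i • ·) (FPLocal.mres_comp (M := I) g.op (homOfLE hZ'W).op (s i)).symm).trans ?_
    match i with
    | some b => exact (congrArg (d' (some b) • ·) (map_zero _)).trans (smul_zero _)
    | none =>
      show d' none • rs I hZ'Z (f ^ n • u) = 0
      rw [hy none, Finset.sum_smul]
      refine Finset.sum_eq_zero fun j _ => ?_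
      rw [Algebra.smul_def, mul_comm, mul_smul]
      show y j • (rsO 𝔛 h hZ'Z (c none j) • rs I hZ'Z (f ^ n • u)) = 0
      rw [← mres_smul' hZ'Z, h0 j, map_zero, smul_zero]
  refine ⟨n, t, ⟨e, fun b hb => ?_⟩, ht none⟩
  exact ht (some ⟨b, hb⟩)

end Groth.Agent.TorsInj
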