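import Mathlib.Algebra.Homology.Factorizations.CM5a
import Mathlib.Algebra.Homology.Embedding.CochainComplex

/-!
# Bounded below injective models of complexes in high degrees
-/

set_option autoImplicit false
set_option linter.style.haveILetI false

universe v u

open CategoryTheory CategoryTheory.Limits

noncomputable section

namespace Groth.Agent.TorsInj

variable {A : Type u} [Category.{v} A] [Abelian A] [EnoughInjectives A]

/-- A bounded below complex of injectives with the same cohomology in high degrees. -/
theorem exists_plus_model (K : CochainComplex A ℤ) (a : ℤ) :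
    ∃ (R : CochainComplex A ℤ) (φ : K ⟶ R), R.IsStrictlyGE (a - 1) ∧ (∀ j, Injective (R.X j)) ∧
      (∀ j, j < a → IsZero (R.homology j)) ∧ ∀ j, a ≤ j → IsIso (HomologicalComplex.homologyMap φ j) := by
  let L := K.truncGE a
  haveI : L.IsStrictlyGE (a - 1 + 1) := by rw [sub_add_cancel]; infer_instance
  let O : CochainComplex A ℤ := HomologicalComplex.zero
  have hO : IsZero O := HomologicalComplex.isZero_zero
  haveI : O.IsStrictlyGE (a - 1) := (CochainComplex.isStrictlyGE_iff _ _).2 fun i _ => isZero_zero A
  obtain ⟨R, hR, ι, π, hι, hq, hπ, -⟩ := CochainComplex.Plus.modelCategoryQuillen.cm5a (0 : L ⟶ O) (a - 1)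
  refine ⟨R, K.πTruncGE a ≫ ι, hR, fun j => ?_, fun j hj => ?_, fun j hj => ?_⟩
  · haveI := (hπ j).2
    have h0 : π.f j = 0 := (isZero_zero A).eq_of_tgt _ _
    exact Injective.of_iso (kernelIsoOfEq h0 ≪≫ kernelZeroIsoSource) (hπ j).2
  · haveI := hq
    refine IsZero.of_iso ?_ (asIso (HomologicalComplex.homologyMap ι j)).symm
    rw [← HomologicalComplex.exactAt_iff_isZero_homology]
    haveI : L.IsStrictlyGE a := inferInstance
    exact ShortComplex.exact_of_isZero_X₂ _ (L.isZero_of_isStrictlyGE a j hj)
  · haveI := hq
    haveI := K.quasiIsoAt_πTruncGE a j hj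
    rw [HomologicalComplex.homologyMap_comp]
    infer_instance

end Groth.Agent.TorsInj
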