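import Groth.Agent.TorsInjLib.GenRel
import Groth.Agent.TorsInjLib.AmpIso
import Groth.Agent.TorsInjLib.Plus
import Groth.Agent.S0484

/-!
# The torsion subcomplex of a complex of injectives with quasi-coherent cohomology
-/

set_option autoImplicit false
set_option linter.style.haveILetI false
set_option linter.unusedVariables false
set_option backward.isDefEq.respectTransparency false
set_option backward.isDefEq.respectTransparency.types false
set_option maxHeartbeats 2000000

universe u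

open CategoryTheory CategoryTheory.Limits AlgebraicGeometry TopologicalSpace Opposite

noncomputable section

namespace Groth.Agent.TorsInj

open Groth.Agent.FCompl

variable {𝔛 : FSch.Sys.{u}} {h : 𝔛.IsFormal}

/-- Finitely many quasi-coherent modules have generators and relations on a common affine neighbourhood. -/
theorem exists_common_relData {M : ℤ → FSch.ModF 𝔛 h} (a : ℤ) {x : 𝔛.X 0} {U₀ : (𝔛.X 0).Opens}
    (hU₀ : IsAffineOpen U₀) (hx : x ∈ U₀) :
    ∀ n : ℕ, (∀ j, a ≤ j → j < a + n → SheafOfModules.IsQuasicoherent.{u} (M j)) →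
      ∃ U : (𝔛.X 0).Opens, IsAffineOpen U ∧ x ∈ U ∧ U ≤ U₀ ∧
        ∀ j, a ≤ j → j < a + n → ∃ V : (𝔛.X 0).Opens, U ≤ V ∧ Nonempty (RelData (M j) V) := by
  intro n
  induction n with
  | zero => exact fun _ => ⟨U₀, hU₀, hx, le_rfl, fun j h1 h2 => absurd h2 (by push_cast; omega)⟩
  | succ n ih =>
    intro H
    obtain ⟨U, hU, hxU, hUU₀, hD⟩ := ih fun j h1 h2 => H j h1 (by push_cast; omega)
    haveI := H (a + n) (by omega) (by push_cast; omega)
    obtain ⟨V, hVU, hxV, hDV⟩ := exists_relData (𝔉 := M (a + n)) hxU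
    obtain ⟨U', hU', hxU', hU'V⟩ := exists_affine_le (𝔛 := 𝔛) hxV
    refine ⟨U', hU', hxU', (hU'V.trans hVU).trans hUU₀, fun j h1 h2 => ?_⟩
    by_cases hj : j = a + n
    · subst hj
      exact ⟨V, hU'V, hDV⟩
    · obtain ⟨V', hUV', hD'⟩ := hD j h1 (by push_cast at h2; omega)
      exact ⟨V', (hU'V.trans hVU).trans hUV', hD'⟩

/-- Quasi-coherent modules have generators and relations of the torsion cohomology near each point. -/
theorem exists_near_genFin (hL : 𝔛.IsLocNoethFormal) {K : CochainComplex (FSch.ModF 𝔛 h) ℤ}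
    (hinj : ∀ i, Injective (K.X i)) (hH : ∀ i, SheafOfModules.IsQuasicoherent.{u} (K.homology i)) (p : ℤ)
    {W : (𝔛.X 0).Opens} {x : 𝔛.X 0} (hx : x ∈ W) :
    ∃ U : (𝔛.X 0).Opens, U ≤ W ∧ x ∈ U ∧ ∃ (I : Type u) (t : I → ((gCx K).homology p).val.obj (op U)),
      GenFin ((gCx K).homology p) t ∧ RelFin ((gCx K).homology p) t := by
  classical
  haveI : IsGrothendieckAbelian.{u} (FSch.ModF 𝔛 h) := S0484.result _ _
  obtain ⟨U₀, hU₀, hxU₀, hU₀W⟩ := exists_affine_le (𝔛 := 𝔛) hx
  haveI := noetherian (h := h) hL hU₀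
  obtain ⟨T₀, hT₀⟩ : (II 𝔛 h U₀).FG := IsNoetherian.noetherian _
  let a : ℤ := p - T₀.card - 1
  obtain ⟨R, φ, hR, hinjR, hzero, hiso⟩ := exists_plus_model K a
  have hqc : ∀ j, a ≤ j → j < a + (T₀.card + 2 : ℕ) → SheafOfModules.IsQuasicoherent.{u} (R.homology j) :=
    fun j hj _ => by
      haveI := hiso j hj
      exact (SheafOfModules.isQuasicoherent (ModSite.ringSh (𝔛.Osh h))).prop_of_iso
        (asIso (HomologicalComplex.homologyMap φ j)) (hH j)
  obtain ⟨U, hU, hxU, hUU₀, hD⟩ := exists_common_relData (M := fun j => R.homology j) a hU₀ hxU₀ (T₀.card + 2) hqc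
  let T : Finset (OR 𝔛 h U) := T₀.image (rsO 𝔛 h hUU₀)
  have hT : Ideal.span (T : Set (OR 𝔛 h U)) = II 𝔛 h U := by
    rw [Finset.coe_image, ← Ideal.map_span, hT₀, II_map hL hU₀ hU hUU₀]
  have hcard : (T.card : ℤ) ≤ T₀.card := by exact_mod_cast Finset.card_image_le
  have hacy : ∀ j, j ≤ p → Acy (R.homology j) U := fun j hj => by
    by_cases hja : j < a
    · exact acy_of_isZero (hzero j hja)
    · obtain ⟨V, hUV, ⟨D⟩⟩ := hD j (by omega) (by push_cast; omega)
      exact fun k => subsingleton_HU_qc hL D hU hUV k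
  haveI := hR
  have hbase : ∀ j, p - T₀.card ≤ j → j ≤ p →
      HasGens R (∅ : Finset (OR 𝔛 h U)) j ∧ HasRelns R (∅ : Finset (OR 𝔛 h U)) j := fun j h1 h2 => by
    obtain ⟨V, hUV, ⟨D⟩⟩ := hD j (by omega) (by push_cast; omega)
    exact hasGens_hasRelns_empty hL hinjR hU (a - 1) p hacy j (by omega) h2 hUV D
  obtain ⟨hS, hI⟩ := hasGens_hasRelns hL hinjR hU (p - T₀.card) p hbase T p (by omega) le_rfl
  obtain ⟨I, t, hg, hr⟩ := exists_genFin_relFin R hL hU T hT (sub_add_cancel p 1) rfl hS hI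
  let ψ := HomologicalComplex.homologyMap
    (((FTors.gammaT 𝔛 h).mapHomologicalComplex (ComplexShape.up ℤ)).map φ) p
  have hbij : ∀ ⦃V : (𝔛.X 0).Opens⦄, V ≤ U → Function.Bijective (ψ.val.app (op V)).hom := fun V hV =>
    bijective_gamma_sections hL hinj hinjR φ a hiso hU T hT p (by omega) hV
  choose t' ht' using fun q => (hbij (le_refl U)).2 (t q)
  refine ⟨U, hUU₀.trans hU₀W, hxU, I, t', fun V g m => ?_, relFin_of_family fun V g S d hd0 hd => ?_⟩
  · refine (hg g ((ψ.val.app (op V)).hom m)).mono fun Z l hl => ?_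
    obtain ⟨S, c, hc⟩ := hl
    refine ⟨S, c, (hbij ((leOfHom l).trans (leOfHom g))).1 ?_⟩
    rw [map_sum, FPLocal.app_mres]
    refine Eq.trans (Finset.sum_congr rfl fun q _ => ?_) hc
    rw [map_smul, FPLocal.app_mres, ht']
  · have hd' : ∑ q ∈ S, d q • FPLocal.mres ((gCx R).homology p) g.op (t q) = 0 := by
      refine Eq.trans ?_ ((congrArg (ψ.val.app (op V)).hom hd).trans (map_zero _))
      rw [map_sum]
      exact Finset.sum_congr rfl fun q _ => by rw [map_smul, FPLocal.app_mres, ht']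
    refine (hr g S d hd0 hd').mono fun Z l hl => ?_
    obtain ⟨Q, e, he⟩ := hl
    have hc : ∀ c : FinRel ((gCx R).homology p) t, (c.1.sum fun q b => b • t' q) = 0 := fun c => by
      refine (hbij (le_refl U)).1 ?_
      rw [map_zero, map_finsuppSum]
      refine Eq.trans ?_ c.2
      exact Finsupp.sum_congr fun q _ => by rw [map_smul, ht']
    refine ⟨↥Q, inferInstance, fun c => e c.1, fun c => ⟨c.1.1, hc c.1⟩, fun q => ?_⟩
    refine Eq.trans ?_ (he q)
    exact Finset.sum_coe_sort Q fun c => e c * ((ModSite.ringSh (𝔛.Osh h)).obj.map (l ≫ g).op).hom (c.1 q)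

/-- The cohomology of the torsion subcomplex of a complex of injectives with quasi-coherent cohomology is
quasi-coherent. -/
theorem isQuasicoherent_homology_gamma (hL : 𝔛.IsLocNoethFormal) {K : CochainComplex (FSch.ModF 𝔛 h) ℤ}
    (hinj : ∀ i, Injective (K.X i)) (hH : ∀ i, SheafOfModules.IsQuasicoherent.{u} (K.homology i)) (p : ℤ) :
    SheafOfModules.IsQuasicoherent.{u} ((gCx K).homology p) := by
  refine isQuasicoherent_of_genFin _ fun W =>
    ⟨{ arrows := fun Z _ => ∃ (U : (𝔛.X 0).Opens) (_ : Z ⟶ U) (I : Type u) (t : I → ((gCx K).homology p).val.obj (op U)),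
        GenFin ((gCx K).homology p) t ∧ RelFin ((gCx K).homology p) t
       downward_closed := fun {Y Z} _ ⟨U, f, hU⟩ k => ⟨U, k ≫ f, hU⟩ }, fun x hx => ?_, fun Z g hg => hg⟩
  obtain ⟨U, hUW, hxU, hU⟩ := exists_near_genFin hL hinj hH p hx
  exact ⟨U, homOfLE hUW, ⟨U, 𝟙 U, hU⟩, hxU⟩

end Groth.Agent.TorsInj
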