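import Groth.Agent.TorsInjLib.Base

/-!
# Generators and relations for the cohomology of the torsion subcomplex
-/

set_option autoImplicit false
set_option linter.style.haveILetI false
set_option linter.unusedVariables false
set_option backward.isDefEq.respectTransparency false
set_option backward.isDefEq.respectTransparency.types false
set_option maxHeartbeats 2000000

universe u

open CategoryTheory CategoryTheory.Limits AlgebraicGeometry TopologicalSpace Opposite

noncomputable section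

namespace Groth.Agent.TorsInj

open Groth.Agent.FCompl

variable {𝔛 : FSch.Sys.{u}} {h : 𝔛.IsFormal} {U : (𝔛.X 0).Opens}
  (R : CochainComplex (FSch.ModF 𝔛 h) ℤ)

/-- The torsion subcomplex. -/
abbrev gCx : CochainComplex (FSch.ModF 𝔛 h) ℤ :=
  ((FTors.gammaT 𝔛 h).mapHomologicalComplex (ComplexShape.up ℤ)).obj R

/-- The underlying section of a torsion cycle. -/
def val' {j : ℤ} {V : (𝔛.X 0).Opens} (w : ((gCx R).cycles j).val.obj (op V)) : (R.X j).val.obj (op V) :=
  (show ((FTors.gammaT 𝔛 h).obj (R.X j)).val.obj (op V) from (((gCx R).iCycles j).val.app (op V)).hom w).1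

theorem val'_inj {j : ℤ} {V : (𝔛.X 0).Opens} {w w' : ((gCx R).cycles j).val.obj (op V)}
    (e : val' R w = val' R w') : w = w' :=
  FPLocal.app_injective_of_mono ((gCx R).iCycles j) V (Subtype.ext e)

theorem val'_rs {j : ℤ} {V W : (𝔛.X 0).Opens} (hW : W ≤ V) (w : ((gCx R).cycles j).val.obj (op V)) :
    val' R (rs ((gCx R).cycles j) hW w) = rs (R.X j) hW (val' R w) :=
  congrArg Subtype.val (FPLocal.app_mres ((gCx R).iCycles j) (homOfLE hW) w)

theorem val'_sum {j : ℤ} {V : (𝔛.X 0).Opens} {ι : Type u} (S : Finset ι) (a : ι → OR 𝔛 h V)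
    (w : ι → ((gCx R).cycles j).val.obj (op V)) :
    val' R (∑ q ∈ S, a q • w q) = ∑ q ∈ S, a q • val' R (w q) := by
  classical
  induction S using Finset.induction with
  | empty =>
    rw [Finset.sum_empty, Finset.sum_empty]
    exact congrArg Subtype.val (map_zero (((gCx R).iCycles j).val.app (op V)).hom)
  | insert q S hq ih =>
    rw [Finset.sum_insert hq, Finset.sum_insert hq, ← ih]
    refine (congrArg Subtype.val (map_add (((gCx R).iCycles j).val.app (op V)).hom _ _)).trans ?_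
    exact congrArg (· + val' R (∑ q ∈ S, a q • w q))
      (congrArg Subtype.val (map_smul (((gCx R).iCycles j).val.app (op V)).hom (a q) (w q)))

theorem val'_add {j : ℤ} {V : (𝔛.X 0).Opens} (w w' : ((gCx R).cycles j).val.obj (op V)) :
    val' R (w + w') = val' R w + val' R w' :=
  congrArg Subtype.val (map_add (((gCx R).iCycles j).val.app (op V)).hom w w')

theorem val'_cycle {j l : ℤ} {V : (𝔛.X 0).Opens} (w : ((gCx R).cycles j).val.obj (op V)) :
    dd R j l (val' R w) = 0 :=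
  congrArg Subtype.val (congrArg (fun φ : (gCx R).cycles j ⟶ (gCx R).X l => (φ.val.app (op V)).hom w)
    ((gCx R).iCycles_d j l))

theorem val'_toCycles {i j : ℤ} {V : (𝔛.X 0).Opens} (v : ((FTors.gammaT 𝔛 h).obj (R.X i)).val.obj (op V)) :
    val' R ((((gCx R).toCycles i j).val.app (op V)).hom v) = dd R i j v.1 :=
  congrArg Subtype.val (iCycles_toCycles (gCx R) i j v)

theorem exists_val' {j l : ℤ} (hjl : j + 1 = l) {V : (𝔛.X 0).Opens} (z : (R.X j).val.obj (op V))
    (hz : dd R j l z = 0) (ht : FTors.IsTorsSect (FTors.openIdealFam 𝔛 h) (R.X j) z) :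
    ∃ w : ((gCx R).cycles j).val.obj (op V), val' R w = z := by
  let y : ((FTors.gammaT 𝔛 h).obj (R.X j)).val.obj (op V) := ⟨z, ht⟩
  obtain ⟨w, hw⟩ := exists_cycle (gCx R) hjl (V := V) y (Subtype.ext hz)
  exact ⟨w, congrArg Subtype.val hw⟩

/-- Generators and relations of the cohomology of the torsion subcomplex over an affine open. -/
theorem exists_genFin_relFin (hL : 𝔛.IsLocNoethFormal) (hU : IsAffineOpen U) (T : Finset (OR 𝔛 h U))
    (hT : Ideal.span (T : Set (OR 𝔛 h U)) = II 𝔛 h U) {i j l : ℤ} (hij : i + 1 = j) (hjl : j + 1 = l)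
    (hS : HasGens R T j) (hI : HasRelns R T j) :
    ∃ (I : Type u) (t : I → ((gCx R).homology j).val.obj (op U)),
      GenFin ((gCx R).homology j) t ∧ RelFin ((gCx R).homology j) t := by
  classical
  have hTm : ∀ a ∈ T, a ∈ II 𝔛 h U := fun a ha => by rw [← hT]; exact Ideal.subset_span ha
  have htors : ∀ {M : FSch.ModF 𝔛 h} {V : (𝔛.X 0).Opens} {hV : V ≤ U} (hVa : IsAffineOpen V)
      {s : M.val.obj (op V)}, Kill T hV s → FTors.IsTorsSect (FTors.openIdealFam 𝔛 h) M s :=
    fun {M} {V} {hV} hVa {s} hs => by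
      obtain ⟨n, hn⟩ := kb_of_kill hL hU hVa hT hs
      exact FTors.IsTorsSect.of_killedBy hn
  -- near a point a torsion cycle is uniformly killed
  have hnear : ∀ {k : ℤ} {V : (𝔛.X 0).Opens} (hV : V ≤ U) (y : ((FTors.gammaT 𝔛 h).obj (R.X k)).val.obj (op V))
      {x : 𝔛.X 0}, x ∈ V → ∃ (Z : (𝔛.X 0).Opens) (hZ : Z ≤ V), IsAffineOpen Z ∧ x ∈ Z ∧
        Kill T (hZ.trans hV) (rs (R.X k) hZ y.1) := fun {k} {V} hV y {x} hx => by
    obtain ⟨Z₂, l₂, hxZ₂, n, hn⟩ := FPLocal.Locally.near ((isTorsSect_iff _).1 y.2) hx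
    obtain ⟨Z, hZa, hxZ, hZZ₂⟩ := exists_affine_le (𝔛 := 𝔛) hxZ₂
    have hZV : Z ≤ V := hZZ₂.trans (leOfHom l₂)
    exact ⟨Z, hZV, hZa, hxZ, kill_of_kb hL hZa hTm
      ((congrArg (KB (R.X k) n) (FPLocal.mres_comp (M := R.X k) l₂.op (homOfLE hZZ₂).op _)).mpr
        (hn.res (homOfLE hZZ₂)))⟩
  let I := {w : ((gCx R).cycles j).val.obj (op U) // Kill T le_rfl (val' R w)}
  let t : I → ((gCx R).homology j).val.obj (op U) := fun w => (((gCx R).homologyπ j).val.app (op U)).hom w.1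
  refine ⟨I, t, genFin_of_family fun W g m => ?_, relFin_of_family fun W g S d hd0 hd => ?_⟩
  · refine FPLocal.locally_of_near (fun Z Y q r hr => ?_) fun x hx => ?_
    · obtain ⟨Q, hQ, sel, a, ha⟩ := hr
      refine ⟨Q, hQ, sel, fun y => rsO 𝔛 h (leOfHom q) (a y), ?_⟩
      rw [FPLocal.mres_comp', ← ha, map_sum]
      refine Finset.sum_congr rfl fun y _ => ?_
      refine Eq.trans ?_ (mres_smul' (leOfHom q) (a y) _).symm
      refine congrArg (rsO 𝔛 h (leOfHom q) (a y) • ·) ?_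
      rw [Category.assoc]
      exact FPLocal.mres_comp' q (r ≫ g) (t (sel y))
    obtain ⟨Z₁, l₁, hxZ₁, w, hw⟩ := FPLocal.Locally.near (FPLocal.locally_preimage ((gCx R).homologyπ j) m) hx
    have hZ₁U : Z₁ ≤ U := (leOfHom l₁).trans (leOfHom g)
    obtain ⟨Z, hZ, hZa, hxZ, hk⟩ := hnear hZ₁U ((((gCx R).iCycles j).val.app (op Z₁)).hom w) hxZ₁
    obtain ⟨Z', hZ', hZ'a, hxZ', ι, _, ws, β, v, hws, hv, hz⟩ := hS i l hij hjl Z (hZ.trans hZ₁U) hZa
      (rs (R.X j) hZ (val' R w)) (by rw [dd_rs, val'_cycle, map_zero]) hk x hxZ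
    choose wc hwc using fun q => exists_val' R hjl (ws q) (hws q).1 (htors hU (hws q).2)
    let v' : ((FTors.gammaT 𝔛 h).obj (R.X i)).val.obj (op Z') := ⟨v, htors hZ'a hv⟩
    have hw' : rs ((gCx R).cycles j) (hZ'.trans hZ) w =
        ∑ q, β q • rs ((gCx R).cycles j) (hZ'.trans (hZ.trans hZ₁U)) (wc q) +
          (((gCx R).toCycles i j).val.app (op Z')).hom v' := by
      refine val'_inj R ?_
      rw [val'_add, val'_sum, val'_rs, val'_toCycles]
      refine ((rs_rs hZ' hZ _).symm.trans hz).trans ?_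
      refine congrArg (· + dd R i j v) (Finset.sum_congr rfl fun q _ => ?_)
      rw [val'_rs, hwc]
    refine ⟨Z', homOfLE ((hZ'.trans hZ).trans (leOfHom l₁)), hxZ', ι, inferInstance,
      fun q => ⟨wc q, by rw [hwc]; exact (hws q).2⟩, β, ?_⟩
    have h1 := congrArg (((gCx R).homologyπ j).val.app (op Z')).hom hw'
    rw [map_add, map_sum, homologyπ_toCycles, add_zero, FPLocal.app_mres, hw] at h1
    refine Eq.trans ?_ (h1.symm.trans (FPLocal.mres_comp (M := (gCx R).homology j) l₁.op (homOfLE (hZ'.trans hZ)).op m).symm)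
    refine Finset.sum_congr rfl fun q _ => ?_
    rw [map_smul, FPLocal.app_mres]
    rfl
  · refine FPLocal.locally_of_near (fun Z Y q r hr => ?_) fun x hx => ?_
    · obtain ⟨Q, hQ, e, c, hc⟩ := hr
      refine ⟨Q, hQ, fun y => rsO 𝔛 h (leOfHom q) (e y), c, fun k => ?_⟩
      have h1 : ∑ y, (show OR 𝔛 h Y from e y) * rsO 𝔛 h (leOfHom (r ≫ g)) ((c y).1 k) = rsO 𝔛 h (leOfHom r) (d k) :=
        hc k
      have h2 := congrArg (rsO 𝔛 h (leOfHom q)) h1
      rw [rsO_comp, map_sum] at h2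
      show ∑ y, rsO 𝔛 h (leOfHom q) (e y) * rsO 𝔛 h (leOfHom ((q ≫ r) ≫ g)) ((c y).1 k) =
        rsO 𝔛 h (leOfHom (q ≫ r)) (d k)
      rw [← h2]
      refine Finset.sum_congr rfl fun y _ => ?_
      rw [map_mul, rsO_comp]
    let wW : ((gCx R).cycles j).val.obj (op W) := ∑ k : ↥S, d k.1 • rs ((gCx R).cycles j) (leOfHom g) k.1.1
    have hwW : (((gCx R).homologyπ j).val.app (op W)).hom wW = 0 := by
      refine Eq.trans ?_ hd
      rw [map_sum, ← Finset.sum_coe_sort S]
      refine Finset.sum_congr rfl fun k _ => ?_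
      rw [map_smul, FPLocal.app_mres]
      rfl
    obtain ⟨Z₁, l₁, hxZ₁, v, hv⟩ := FPLocal.Locally.near (locally_boundary (gCx R) hij wW hwW) hx
    have hZ₁U : Z₁ ≤ U := (leOfHom l₁).trans (leOfHom g)
    obtain ⟨Z, hZ, hZa, hxZ, hk⟩ := hnear hZ₁U (k := i) v hxZ₁
    have hZW : Z ≤ W := hZ.trans (leOfHom l₁)
    have hsum : ∑ k : ↥S, rsO 𝔛 h hZW (d k.1) • rs (R.X j) (hZ.trans hZ₁U) (val' R k.1.1) =
        dd R i j (rs (R.X i) hZ v.1) := by
      rw [dd_rs, ← val'_toCycles, hv, ← val'_rs]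
      refine Eq.trans ?_ (congrArg (val' R) (rs_rs hZ (leOfHom l₁) wW).symm)
      rw [val'_rs, val'_sum, rs_comb]
      refine Finset.sum_congr rfl fun k _ => ?_
      rw [val'_rs, rs_rs]
    obtain ⟨Z', hZ', hZ'a, hxZ', κ, _, c, u, b, hu, hb⟩ := hI i l hij hjl ↥S (fun k => val' R k.1.1)
      (fun k => ⟨val'_cycle R _, k.1.2⟩) Z (hZ.trans hZ₁U) hZa (fun k => rsO 𝔛 h hZW (d k.1)) _ hk hsum x hxZ
    let cS : κ → I → OR 𝔛 h U := fun m k => if hk : k ∈ S then c m ⟨k, hk⟩ else 0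
    have hcS : ∀ m, ∑ k ∈ S, cS m k • t k = 0 := fun m => by
      let u' : ((FTors.gammaT 𝔛 h).obj (R.X i)).val.obj (op U) := ⟨u m, htors hU (hu m).1⟩
      have e : ∑ k : ↥S, c m k • k.1.1 = (((gCx R).toCycles i j).val.app (op U)).hom u' := by
        refine val'_inj R ?_
        rw [val'_sum, val'_toCycles]
        exact (hu m).2
      have e' := congrArg (((gCx R).homologyπ j).val.app (op U)).hom e
      rw [homologyπ_toCycles, map_sum] at e'
      rw [← Finset.sum_coe_sort S]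
      refine Eq.trans (Finset.sum_congr rfl fun k _ => ?_) e'
      rw [map_smul]
      exact congrArg (· • t k.1) (dif_pos k.2)
    refine ⟨Z', homOfLE ((hZ'.trans hZ).trans (leOfHom l₁)), hxZ', κ, inferInstance, b,
      fun m => mkFinRel t S (cS m) (fun k hk => dif_neg hk) (hcS m), fun k => ?_⟩
    by_cases hks : k ∈ S
    · have h1 := hb ⟨k, hks⟩
      rw [rsO_comp] at h1
      show _ = rsO 𝔛 h (hZ'.trans hZW) (d k)
      rw [h1]
      refine Finset.sum_congr rfl fun m _ => ?_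
      refine congrArg (fun z : OR 𝔛 h U => b m * rsO 𝔛 h (hZ'.trans (hZ.trans hZ₁U)) z) ?_
      exact dif_pos hks
    · rw [hd0 k hks, map_zero]
      refine Finset.sum_eq_zero fun m _ => ?_
      refine (congrArg (fun z : OR 𝔛 h U => b m * rsO 𝔛 h (hZ'.trans (hZ.trans hZ₁U)) z) (dif_neg hks : cS m k = 0)).trans ?_
      exact (congrArg (b m * ·) (map_zero _)).trans (mul_zero _)

end Groth.Agent.TorsInj
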