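import Groth.Agent.TorsInjLib.Core

/-!
# Sections killed by powers of generators: generators and relations over an affine open
-/

set_option autoImplicit false
set_option linter.style.haveILetI false
set_option linter.unusedVariables false
set_option backward.isDefEq.respectTransparency false
set_option backward.isDefEq.respectTransparency.types false
set_option maxHeartbeats 4000000

universe u

open CategoryTheory CategoryTheory.Limits AlgebraicGeometry TopologicalSpace Opposite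

noncomputable section

namespace Groth.Agent.TorsInj

open Groth.Agent.FCompl

variable {𝔛 : FSch.Sys.{u}} {h : 𝔛.IsFormal} {U : (𝔛.X 0).Opens}
  (R : CochainComplex (FSch.ModF 𝔛 h) ℤ)

/-- Cycles killed by powers of a family come locally from such cycles over the whole open. -/
def HasGens (T : Finset (OR 𝔛 h U)) (j : ℤ) : Prop :=
  ∀ (i l : ℤ), i + 1 = j → j + 1 = l → ∀ (Z : (𝔛.X 0).Opens) (hZ : Z ≤ U), IsAffineOpen Z →
    ∀ z : (R.X j).val.obj (op Z), dd R j l z = 0 → Kill T hZ z → ∀ x ∈ Z,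
      ∃ (Z' : (𝔛.X 0).Opens) (hZ' : Z' ≤ Z), IsAffineOpen Z' ∧ x ∈ Z' ∧
        ∃ (ι : Type u) (_ : Fintype ι) (w : ι → (R.X j).val.obj (op U)) (β : ι → OR 𝔛 h Z')
          (v : (R.X i).val.obj (op Z')),
          (∀ q, dd R j l (w q) = 0 ∧ Kill T le_rfl (w q)) ∧ Kill T (hZ'.trans hZ) v ∧
            rs (R.X j) hZ' z = ∑ q, β q • rs (R.X j) (hZ'.trans hZ) (w q) + dd R i j v

/-- Relations between such cycles come locally from relations over the whole open. -/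
def HasRelns (T : Finset (OR 𝔛 h U)) (j : ℤ) : Prop :=
  ∀ (i l : ℤ), i + 1 = j → j + 1 = l → ∀ (ι : Type u) [Fintype ι] (w : ι → (R.X j).val.obj (op U)),
    (∀ q, dd R j l (w q) = 0 ∧ Kill T le_rfl (w q)) → ∀ (Z : (𝔛.X 0).Opens) (hZ : Z ≤ U), IsAffineOpen Z →
    ∀ (a : ι → OR 𝔛 h Z) (v : (R.X i).val.obj (op Z)), Kill T hZ v →
      ∑ q, a q • rs (R.X j) hZ (w q) = dd R i j v → ∀ x ∈ Z,
      ∃ (Z' : (𝔛.X 0).Opens) (hZ' : Z' ≤ Z), IsAffineOpen Z' ∧ x ∈ Z' ∧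
        ∃ (κ : Type u) (_ : Fintype κ) (c : κ → ι → OR 𝔛 h U) (u : κ → (R.X i).val.obj (op U))
          (b : κ → OR 𝔛 h Z'),
          (∀ k, Kill T le_rfl (u k) ∧ ∑ q, c k q • w q = dd R i j (u k)) ∧
            ∀ q, rsO 𝔛 h hZ' (a q) = ∑ k, b k * rsO 𝔛 h (hZ'.trans hZ) (c k q)

variable {R}

theorem dd_sum (i j : ℤ) {V : (𝔛.X 0).Opens} {ι : Type u} (S : Finset ι) (s : ι → (R.X i).val.obj (op V)) :
    dd R i j (∑ q ∈ S, s q) = ∑ q ∈ S, dd R i j (s q) :=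
  map_sum _ _ _

theorem Kill.zero {T : Finset (OR 𝔛 h U)} {V : (𝔛.X 0).Opens} {hV : V ≤ U} {M : FSch.ModF 𝔛 h} :
    Kill T hV (0 : M.val.obj (op V)) :=
  ⟨0, fun a _ => smul_zero _⟩

theorem Kill.sum {T : Finset (OR 𝔛 h U)} {V : (𝔛.X 0).Opens} {hV : V ≤ U} {M : FSch.ModF 𝔛 h} {ι : Type u}
    (S : Finset ι) (s : ι → M.val.obj (op V)) (H : ∀ q, Kill T hV (s q)) : Kill T hV (∑ q ∈ S, s q) :=
  Finset.sum_induction s (fun x => Kill T hV x) (fun _ _ a b => a.add b) Kill.zero fun q _ => H q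

/-- A finite family killed by powers of a family is killed by a common power of each member. -/
theorem exists_common_exp {T : Finset (OR 𝔛 h U)} {f : OR 𝔛 h U} (hf : f ∈ T) {M : FSch.ModF 𝔛 h} {ι : Type u}
    [Fintype ι] (s : ι → M.val.obj (op U)) (H : ∀ q, Kill T le_rfl (s q)) :
    ∃ e : ℕ, ∀ q, rsO 𝔛 h (le_refl U) f ^ e • s q = 0 := by
  choose e he using H
  exact ⟨Finset.univ.sup e, fun q => pow_smul_eq_zero (Finset.le_sup (Finset.mem_univ q)) (he q f hf)⟩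

theorem rs_pow_smul {M : FSch.ModF 𝔛 h} {V W : (𝔛.X 0).Opens} (hW : W ≤ V) (hV : V ≤ U) (f : OR 𝔛 h U) (e : ℕ)
    (s : M.val.obj (op V)) :
    rs M hW (rsO 𝔛 h hV f ^ e • s) = rsO 𝔛 h (hW.trans hV) f ^ e • rs M hW s :=
  (mres_smul' hW _ s).trans (by rw [map_pow, rsO_comp])

theorem rs_comb {M : FSch.ModF 𝔛 h} {V W : (𝔛.X 0).Opens} (hW : W ≤ V) {ι : Type u} (S : Finset ι)
    (a : ι → OR 𝔛 h V) (s : ι → M.val.obj (op V)) :
    rs M hW (∑ q ∈ S, a q • s q) = ∑ q ∈ S, rsO 𝔛 h hW (a q) • rs M hW (s q) :=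
  (map_sum _ _ _).trans (Finset.sum_congr rfl fun q _ => mres_smul' hW _ _)

/-- Correcting a section whose multiple by a power of `f` is a combination of cycles, so that it is killed by
powers of `f`. -/
theorem exists_correct [DecidableEq (OR 𝔛 h U)] (hL : 𝔛.IsLocNoethFormal) (hinj : ∀ i, Injective (R.X i))
    (hU : IsAffineOpen U) {T : Finset (OR 𝔛 h U)} (f : OR 𝔛 h U) (i j : ℤ) {V : (𝔛.X 0).Opens} (hV : V ≤ U)
    (hVa : IsAffineOpen V) (e : ℕ) {u : (R.X j).val.obj (op V)} (hu : Kill T hV u) {ι : Type u} [Fintype ι]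
    (x : ι → (R.X j).val.obj (op U)) (hx : ∀ q, Kill T le_rfl (x q)) (γ : ι → OR 𝔛 h V)
    (v : (R.X i).val.obj (op V)) (hv : Kill T hV v)
    (he : rsO 𝔛 h hV f ^ e • u = ∑ q, γ q • rs (R.X j) hV (x q) + dd R i j v) :
    ∃ (n : ℕ) (s : ι → (R.X j).val.obj (op U)) (τ : (R.X i).val.obj (op V)),
      (∀ q, Kill T le_rfl (s q) ∧ rsO 𝔛 h (le_refl U) f ^ (e + n) • s q = rsO 𝔛 h (le_refl U) f ^ n • x q) ∧
        Kill T hV τ ∧ Kill (insert f T) hV (u - ∑ q, γ q • rs (R.X j) hV (s q) - dd R i j τ) := by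
  haveI := hinj j
  haveI := hinj i
  choose nq sq hsq hsq' using fun q => exists_divide hL (le_refl U) hU (rsO 𝔛 h (le_refl U) f) e (x q) (hx q)
  obtain ⟨m, τ, hτ, hτ'⟩ := exists_divide hL hV hVa (rsO 𝔛 h hV f) e v hv
  let N := max m (Finset.univ.sup nq)
  have hs : ∀ q, rsO 𝔛 h (le_refl U) f ^ (e + N) • sq q = rsO 𝔛 h (le_refl U) f ^ N • x q := fun q => by
    have hq : nq q ≤ N := (Finset.le_sup (Finset.mem_univ q)).trans (le_max_right _ _)
    rw [show e + N = (N - nq q) + (e + nq q) by omega, pow_add, mul_smul, hsq', ← mul_smul, ← pow_add,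
      Nat.sub_add_cancel hq]
  have hτN : rsO 𝔛 h hV f ^ (e + N) • τ = rsO 𝔛 h hV f ^ N • v := by
    have hm : m ≤ N := le_max_left _ _
    rw [show e + N = (N - m) + (e + m) by omega, pow_add, mul_smul, hτ', ← mul_smul, ← pow_add,
      Nat.sub_add_cancel hm]
  refine ⟨N, sq, τ, fun q => ⟨hsq q, hs q⟩, hτ,
    ((hu.sub (Kill.sum _ _ fun q => ((hsq q).res hV).smul _)).sub (hτ.hom (R.d i j))).insert (e := e + N) ?_⟩
  rw [smul_sub, smul_sub, ← dd_smul, hτN, dd_smul, sub_sub, sub_eq_zero, add_comm e N, pow_add, mul_smul, he,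
    smul_add, Finset.smul_sum, Finset.smul_sum]
  congr 1
  refine Finset.sum_congr rfl fun q _ => ?_
  rw [smul_comm _ (γ q), smul_comm _ (γ q)]
  refine congrArg (γ q • ·) ?_
  rw [← pow_add, add_comm N e, ← rs_pow_smul hV le_rfl f (e + N), hs, rs_pow_smul hV le_rfl f N]

/-- The inductive step. -/
theorem hasGens_insert [DecidableEq (OR 𝔛 h U)] (hL : 𝔛.IsLocNoethFormal) (hinj : ∀ i, Injective (R.X i))
    (hU : IsAffineOpen U) {T : Finset (OR 𝔛 h U)} (f : OR 𝔛 h U) (j : ℤ) (hS : HasGens R T j)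
    (hI : HasRelns R T j) (hS' : HasGens R T (j - 1)) : HasGens R (insert f T) j := by
  intro i l hij hjl Z hZ hZa z hz hzk x hx
  obtain ⟨e, he⟩ := hzk
  have hzT : Kill T hZ z := Kill.mono (Finset.subset_insert f T) ⟨e, he⟩
  obtain ⟨Z₁, hZ₁, hZ₁a, hxZ₁, ι, _, w, β, u₁, hw, hu₁, hz₁⟩ := hS i l hij hjl Z hZ hZa z hz hzT x hx
  have hfz : ∑ q, β q • rs (R.X j) (hZ₁.trans hZ) (rsO 𝔛 h (le_refl U) f ^ e • w q) =
      dd R i j (-(rsO 𝔛 h (hZ₁.trans hZ) f ^ e • u₁)) := by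
    have h1 := congrArg (rs (R.X j) hZ₁) (he f (Finset.mem_insert_self f T))
    rw [rs_pow_smul, map_zero, hz₁, smul_add, Finset.smul_sum, add_eq_zero_iff_eq_neg] at h1
    refine Eq.trans (Finset.sum_congr rfl fun q _ => ?_) (h1.trans ?_)
    · rw [rs_pow_smul, smul_comm]
    · rw [← dd_smul]
      exact (map_neg _ _).symm
  obtain ⟨Z₂, hZ₂, hZ₂a, hxZ₂, κ, _, c, v, b, hv, hb⟩ := hI i l hij hjl ι
    (fun q => rsO 𝔛 h (le_refl U) f ^ e • w q)
    (fun q => ⟨by rw [dd_smul, (hw q).1, smul_zero], (hw q).2.smul _⟩) Z₁ (hZ₁.trans hZ) hZ₁a β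
    (-(rsO 𝔛 h (hZ₁.trans hZ) f ^ e • u₁)) (hu₁.smul _).neg hfz x hxZ₁
  haveI := hinj i
  choose nk tk htk htk' using fun k => exists_divide hL (le_refl U) hU (rsO 𝔛 h (le_refl U) f) e (v k) (hv k).1
  let y : κ → (R.X j).val.obj (op U) := fun k => ∑ q, c k q • w q - dd R i j (tk k)
  have hy : ∀ k, dd R j l (y k) = 0 ∧ Kill (insert f T) le_rfl (y k) := fun k => by
    refine ⟨?_, ((Kill.sum _ _ fun q => (hw q).2.smul _).sub ((htk k).hom (R.d i j))).insert (e := e + nk k) ?_⟩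
    · rw [dd_sub, dd_dd, sub_zero, dd_sum]
      exact Finset.sum_eq_zero fun q _ => by rw [dd_smul, (hw q).1, smul_zero]
    · rw [smul_sub, ← dd_smul, htk', dd_smul, ← (hv k).2, sub_eq_zero, Finset.smul_sum, Finset.smul_sum]
      refine Finset.sum_congr rfl fun q _ => ?_
      rw [smul_comm _ (c k q), smul_comm _ (c k q), ← mul_smul (rsO 𝔛 h (le_refl U) f ^ nk k), ← pow_add, add_comm e]
  have hZ₂Z : Z₂ ≤ Z := hZ₂.trans hZ₁
  let u₂ : (R.X i).val.obj (op Z₂) := rs (R.X i) hZ₂ u₁ + ∑ k, b k • rs (R.X i) (hZ₂Z.trans hZ) (tk k)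
  have hu₂ : Kill T (hZ₂Z.trans hZ) u₂ :=
    (hu₁.res hZ₂).add (Kill.sum _ _ fun k => ((htk k).res (hZ₂Z.trans hZ)).smul _)
  have hz₂ : rs (R.X j) hZ₂Z z = ∑ k, b k • rs (R.X j) (hZ₂Z.trans hZ) (y k) + dd R i j u₂ := by
    have h1 := congrArg (rs (R.X j) hZ₂) hz₁
    rw [rs_rs, map_add, rs_comb, ← dd_rs] at h1
    rw [h1]
    simp only [u₂, y, map_sub, rs_comb, smul_sub, Finset.sum_sub_distrib, ← dd_rs, rs_rs, hb, Finset.sum_smul,
      Finset.smul_sum, mul_smul]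
    rw [show dd R i j (rs (R.X i) hZ₂ u₁ + ∑ k, b k • rs (R.X i) (hZ₂Z.trans hZ) (tk k)) =
      dd R i j (rs (R.X i) hZ₂ u₁) + ∑ k, b k • dd R i j (rs (R.X i) (hZ₂Z.trans hZ) (tk k)) from
      (map_add _ _ _).trans (congrArg _ ((dd_sum i j _ _).trans (Finset.sum_congr rfl fun k _ => dd_smul R i j _ _)))]
    rw [Finset.sum_comm]
    abel
  obtain ⟨e', he'⟩ : Kill (insert f T) (hZ₂Z.trans hZ) (dd R i j u₂) := by
    rw [show dd R i j u₂ = rs (R.X j) hZ₂Z z - ∑ k, b k • rs (R.X j) (hZ₂Z.trans hZ) (y k) by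
      rw [hz₂]; abel]
    exact (Kill.res (T := insert f T) ⟨e, he⟩ hZ₂Z).sub
      (Kill.sum _ _ fun k => ((hy k).2.res (hZ₂Z.trans hZ)).smul _)
  rw [show j - 1 = i by omega] at hS'
  obtain ⟨Z', hZ', hZ'a, hxZ', ι', _, xs, γ, v', hxs, hv', hu'⟩ := hS' (i - 1) j (sub_add_cancel i 1) hij Z₂
    (hZ₂Z.trans hZ) hZ₂a (rsO 𝔛 h (hZ₂Z.trans hZ) f ^ e' • u₂)
    (by rw [dd_smul]; exact he' f (Finset.mem_insert_self f T)) (hu₂.smul _) x hxZ₂
  rw [rs_pow_smul] at hu'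
  obtain ⟨n, s, τ, hs, hτ, hu₃⟩ := exists_correct hL hinj hU f (i - 1) i (hZ'.trans (hZ₂Z.trans hZ)) hZ'a e'
    (hu₂.res hZ') xs (fun q => (hxs q).2) γ v' hv' hu'
  let u₃ := rs (R.X i) hZ' u₂ - ∑ q, γ q • rs (R.X i) (hZ'.trans (hZ₂Z.trans hZ)) (s q) - dd R (i - 1) i τ
  refine ⟨Z', hZ'.trans hZ₂Z, hZ'a, hxZ', κ ⊕ ι', inferInstance,
    Sum.elim y (fun q => dd R i j (s q)), Sum.elim (fun k => rsO 𝔛 h hZ' (b k)) γ, u₃, ?_, hu₃, ?_⟩
  · rintro (k | q)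
    · exact hy k
    · refine ⟨dd_dd R i j l _, ((hs q).1.hom (R.d i j)).insert (e := e' + n) ?_⟩
      show rsO 𝔛 h (le_refl U) f ^ (e' + n) • dd R i j (s q) = 0
      rw [← dd_smul, (hs q).2, dd_smul, (hxs q).1, smul_zero]
  · have h1 := congrArg (rs (R.X j) hZ') hz₂
    rw [rs_rs, map_add, rs_comb, ← dd_rs] at h1
    rw [h1, Fintype.sum_sum_type]
    simp only [Sum.elim_inl, Sum.elim_inr, rs_rs, ← dd_rs, u₃, dd_sub, dd_dd, sub_zero, dd_sum, dd_smul]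
    abel

/-- The inductive step for relations. -/
theorem hasRelns_insert [DecidableEq (OR 𝔛 h U)] (hL : 𝔛.IsLocNoethFormal) (hinj : ∀ i, Injective (R.X i))
    (hU : IsAffineOpen U) {T : Finset (OR 𝔛 h U)} (f : OR 𝔛 h U) (j : ℤ) (hI : HasRelns R T j)
    (hS' : HasGens R T (j - 1)) (hI' : HasRelns R T (j - 1)) : HasRelns R (insert f T) j := by
  intro i l hij hjl ι _ w hw Z hZ hZa a u hu hau x hx
  rw [show j - 1 = i by omega] at hS' hI'
  obtain ⟨Z₁, hZ₁, hZ₁a, hxZ₁, κ, _, c, v, b, hv, hb⟩ := hI i l hij hjl ι w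
    (fun q => ⟨(hw q).1, (hw q).2.mono (Finset.subset_insert f T)⟩) Z hZ hZa a u
    (hu.mono (Finset.subset_insert f T)) hau x hx
  let y : (R.X i).val.obj (op Z₁) := rs (R.X i) hZ₁ u - ∑ k, b k • rs (R.X i) (hZ₁.trans hZ) (v k)
  have hy : dd R i j y = 0 := by
    simp only [y]
    rw [dd_sub, dd_rs, ← hau, rs_comb, dd_sum, sub_eq_zero]
    simp only [dd_smul, dd_rs, ← (hv _).2, rs_comb, Finset.smul_sum, hb, Finset.sum_smul, mul_smul, rs_rs]
    exact Finset.sum_comm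
  obtain ⟨Z₂, hZ₂, hZ₂a, hxZ₂, ι', _, xs, γ, w₀, hxs, hw₀, hy₂⟩ := hS' (i - 1) j (sub_add_cancel i 1) hij Z₁
    (hZ₁.trans hZ) hZ₁a y hy ((hu.mono (Finset.subset_insert f T)).res hZ₁ |>.sub
      (Kill.sum _ _ fun k => ((hv k).1.res (hZ₁.trans hZ)).smul _)) x hxZ₁
  obtain ⟨e₁, he₁⟩ := exists_common_exp (Finset.mem_insert_self f T) w fun q => (hw q).2
  obtain ⟨e₂, he₂⟩ := hu
  let e := max e₁ e₂
  have hZ₂U : Z₂ ≤ U := hZ₂.trans (hZ₁.trans hZ)
  have hsum : ∑ m : κ ⊕ ι', Sum.elim (fun k => rsO 𝔛 h hZ₂ (b k)) γ m •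
      rs (R.X i) hZ₂U (rsO 𝔛 h (le_refl U) f ^ e • Sum.elim v xs m) =
        dd R (i - 1) i (-(rsO 𝔛 h hZ₂U f ^ e • w₀)) := by
    have h1 := congrArg (rsO 𝔛 h hZ₂U f ^ e • ·) hy₂
    have h2 : rsO 𝔛 h hZ₂U f ^ e • rs (R.X i) (hZ₂.trans hZ₁) u = 0 := by
      rw [← rs_pow_smul (hZ₂.trans hZ₁) hZ f e,
        pow_smul_eq_zero (le_max_right e₁ e₂) (he₂ f (Finset.mem_insert_self f T)), map_zero]
    simp only [y, map_sub, rs_rs, rs_comb, smul_sub, h2, zero_sub, smul_add, Finset.smul_sum] at h1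
    rw [Fintype.sum_sum_type]
    simp only [Sum.elim_inl, Sum.elim_inr, rs_pow_smul]
    rw [show dd R (i - 1) i (-(rsO 𝔛 h hZ₂U f ^ e • w₀)) = -(rsO 𝔛 h hZ₂U f ^ e • dd R (i - 1) i w₀) from
      (map_neg _ _).trans (congrArg Neg.neg (dd_smul R _ _ _ _))]
    simp only [smul_comm (γ _), smul_comm (rsO 𝔛 h hZ₂ (b _))]
    rw [eq_neg_iff_add_eq_zero, add_assoc, ← h1, add_neg_cancel]
  obtain ⟨Z', hZ', hZ'a, hxZ', μ, _, g, w', η, hw', hη⟩ := hI' (i - 1) j (sub_add_cancel i 1) hij (κ ⊕ ι')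
    (fun m => rsO 𝔛 h (le_refl U) f ^ e • Sum.elim v xs m)
    (by
      rintro (k | q)
      · refine ⟨?_, (hv k).1.smul _⟩
        show dd R i j (rsO 𝔛 h (le_refl U) f ^ e • v k) = 0
        rw [dd_smul, ← (hv k).2, Finset.smul_sum]
        exact Finset.sum_eq_zero fun q _ => by
          rw [smul_comm, pow_smul_eq_zero (le_max_left e₁ e₂) (he₁ q), smul_zero]
      · refine ⟨?_, (hxs q).2.smul _⟩
        show dd R i j (rsO 𝔛 h (le_refl U) f ^ e • xs q) = 0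
        rw [dd_smul, (hxs q).1, smul_zero])
    Z₂ hZ₂U hZ₂a _ _ (hw₀.smul _).neg hsum x hxZ₂
  haveI := hinj (i - 1)
  choose nm tm htm htm' using fun m => exists_divide hL (le_refl U) hU (rsO 𝔛 h (le_refl U) f) e (w' m) (hw' m).1
  refine ⟨Z', hZ'.trans (hZ₂.trans hZ₁), hZ'a, hxZ', μ, inferInstance,
    fun m q => ∑ k, g m (Sum.inl k) * c k q,
    fun m => ∑ p : κ ⊕ ι', g m p • Sum.elim v xs p - dd R (i - 1) i (tm m), η, fun m => ⟨?_, ?_⟩, fun q => ?_⟩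
  · refine ((Kill.sum _ _ fun p => ?_).sub ((htm m).hom (R.d (i - 1) i))).insert (e := e + nm m) ?_
    · cases p with
      | inl k => exact (hv k).1.smul _
      | inr q => exact (hxs q).2.smul _
    · rw [smul_sub, ← dd_smul, htm', dd_smul, ← (hw' m).2, sub_eq_zero, Finset.smul_sum, Finset.smul_sum]
      refine Finset.sum_congr rfl fun p _ => ?_
      rw [smul_comm _ (g m p), smul_comm _ (g m p), ← mul_smul (rsO 𝔛 h (le_refl U) f ^ nm m), ← pow_add, add_comm e]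
  · rw [dd_sub, dd_dd, sub_zero, dd_sum, Fintype.sum_sum_type]
    simp only [Sum.elim_inl, Sum.elim_inr, dd_smul, (hxs _).1, smul_zero, Finset.sum_const_zero, add_zero,
      ← (hv _).2, Finset.smul_sum, Finset.sum_smul, mul_smul]
    exact Finset.sum_comm
  · have h1 := congrArg (rsO 𝔛 h (hZ'.trans hZ₂)) (hb q)
    rw [rsO_comp, map_sum] at h1
    rw [h1]
    simp only [map_mul, map_sum, rsO_comp, Finset.mul_sum]
    rw [Finset.sum_comm]
    refine Finset.sum_congr rfl fun k _ => ?_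
    rw [← rsO_comp hZ' hZ₂ (b k), show rsO 𝔛 h hZ₂ (b k) = Sum.elim (fun k => rsO 𝔛 h hZ₂ (b k)) γ (Sum.inl k) from rfl,
      hη, Finset.sum_mul]
    exact Finset.sum_congr rfl fun m _ => mul_assoc _ _ _

/-- Generators and relations for cycles killed by powers of a family. -/
theorem hasGens_hasRelns (hL : 𝔛.IsLocNoethFormal) (hinj : ∀ i, Injective (R.X i)) (hU : IsAffineOpen U)
    (lo N : ℤ) (hbase : ∀ j, lo ≤ j → j ≤ N →
      HasGens R (∅ : Finset (OR 𝔛 h U)) j ∧ HasRelns R (∅ : Finset (OR 𝔛 h U)) j)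
    (T : Finset (OR 𝔛 h U)) : ∀ j, lo + (T.card : ℤ) ≤ j → j ≤ N → HasGens R T j ∧ HasRelns R T j := by
  classical
  induction T using Finset.induction with
  | empty => exact fun j h1 h2 => hbase j (by simpa using h1) h2
  | insert f T hfT ih =>
    intro j h1 h2
    rw [Finset.card_insert_of_notMem hfT] at h1
    push_cast at h1
    have H := ih j (by omega) h2
    have H' := ih (j - 1) (by omega) (by omega)
    exact ⟨hasGens_insert hL hinj hU f j H.1 H.2 H'.1, hasRelns_insert hL hinj hU f j H.2 H'.1 H'.2⟩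

end Groth.Agent.TorsInj
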